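import Cfsg.Agent.Lib.HNType.Over.Frame

/-!
# Products of conjugates of the central involution, and the two classes of involutions of the image
-/

set_option autoImplicit false
set_option maxRecDepth 100000

namespace Cfsg.Lib.HNType.Over

open Cfsg.Lib.HN Cfsg.Lib.HN.Top Cfsg.Lib.HN.Sub100 Subgroup
open Cfsg.Lib.HN.Top.Data (odata)

variable {G : Type*} [Group G]

theorem conj_even_reduce [Finite G] {u v : G} (hu : u * u = 1) (hv : v * v = 1) :
    ∃ n : ℕ, Even n ∧ ∃ k : ℕ, (u * ((u * v) ^ n * v * ((u * v) ^ n)⁻¹)) ^ 2 ^ k = 1 := by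
  obtain ⟨k, m, ⟨q, hq⟩, hk⟩ := Nat.exists_eq_two_pow_mul_odd (n := orderOf (u * v))
    (orderOf_pos (u * v)).ne'
  have hsemi : ∀ (a : G), a * a = 1 → a * (u * v) * a⁻¹ = (u * v)⁻¹ →
      ∀ n : ℕ, a * (u * v) ^ n = ((u * v) ^ n)⁻¹ * a := fun a _ h n => by
    rw [← inv_pow, ← h, conj_pow, inv_mul_cancel_right]
  have hui : u⁻¹ = u := inv_eq_of_mul_eq_one_right hu
  have hvi : v⁻¹ = v := inv_eq_of_mul_eq_one_right hv
  have h1 : u * (u * v) * u⁻¹ = (u * v)⁻¹ := by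
    rw [mul_inv_rev, hvi, hui, ← mul_assoc u u v, hu, one_mul]
  have h2 : v * (u * v) * v⁻¹ = (u * v)⁻¹ := by
    rw [mul_inv_rev, hvi, hui, mul_assoc v (u * v) v, mul_assoc u v v, hv, mul_one]
  obtain ⟨j, hje, e, he, hje'⟩ : ∃ j : ℕ, Even j ∧ ∃ e : ℕ, Odd e ∧ 2 * j = e * m + 1 := by
    rcases Nat.even_or_odd (q + 1) with h | h
    · exact ⟨q + 1, h, 1, odd_one, by omega⟩
    · refine ⟨q + 1 + m, ?_, 3, ⟨1, by norm_num⟩, by omega⟩
      exact h.add_odd ⟨q, hq⟩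
  refine ⟨j, hje, k, ?_⟩
  have e1 : (u * v) ^ j * v * ((u * v) ^ j)⁻¹ = (u * v) ^ (2 * j) * v := by
    rw [two_mul, pow_add]
    have h3 : v * ((u * v) ^ j)⁻¹ = (u * v) ^ j * v := by
      have h4 := hsemi v hv h2 j
      calc v * ((u * v) ^ j)⁻¹ = v * (((u * v) ^ j)⁻¹ * v) * v⁻¹ := by group
        _ = v * (v * (u * v) ^ j) * v⁻¹ := by rw [h4]
        _ = (v * v) * (u * v) ^ j * v⁻¹ := by group
        _ = (u * v) ^ j * v := by rw [hv, hvi, one_mul]
    rw [mul_assoc, h3, ← mul_assoc]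
  have e2 : u * ((u * v) ^ (2 * j) * v) = ((u * v) ^ (e * m))⁻¹ := by
    rw [← mul_assoc, hsemi u hu h1, mul_assoc, hje', pow_succ', mul_inv_rev, mul_assoc]
    group
  rw [e1, e2, inv_pow, ← pow_mul, show e * m * 2 ^ k = e * (2 ^ k * m) by ring, ← hk, mul_comm,
    pow_mul, pow_orderOf_eq_one, one_pow, inv_one]

theorem dvd_four {o : ℕ} {i : ℕ} (h2 : o ∣ 2 ^ i) {n : ℕ} (hn : o ∣ n) (hn8 : ¬ 8 ∣ n) :
    o ∣ 4 := by
  obtain ⟨k, -, rfl⟩ := (Nat.dvd_prime_pow Nat.prime_two).1 h2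
  have : k ≤ 2 := by
    by_contra h
    exact hn8 ((pow_dvd_pow 2 (show 3 ≤ k by omega)).trans hn)
  exact pow_dvd_pow 2 this |>.trans (by norm_num)

variable {t : G} {C : CMap t false} (F : Emb C) [Finite G]

namespace Emb

/-- Two conjugates of the centre with product of 2-power order generate a dihedral group of order at
most eight. -/
theorem pow_four {u v : G} (hu : F.InT u) (hv : F.InT v) {i : ℕ} (h : (u * v) ^ 2 ^ i = 1) :
    (u * v) ^ 4 = 1 := by
  obtain ⟨x, hxH, rfl⟩ := hu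
  have hv' := InT.conj F hv (inv_mem hxH)
  rw [inv_inv] at hv'
  set v' := x⁻¹ * v * x
  have e : x * t * x⁻¹ * v = x * (t * v') * x⁻¹ := by simp only [v']; group
  rw [e, conj_pow, conj_eq_one_iff] at h ⊢
  obtain ⟨y, ⟨g, rfl⟩, hy⟩ := hv'
  obtain ⟨j, a, hja⟩ : ∃ (j : Fin odata.K.length) (a : PS),
      act g ω0 = odata.mk' (wgen relP) j a := by
    obtain ⟨j, q⟩ := act g ω0
    obtain ⟨a, rfl⟩ := QuotientGroup.mk_surjective q
    exact ⟨j, a, rfl⟩
  have h1 := toCos_act g ω0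
  rw [hja, toCos_ω0, toCos_mk, rhoPt, smul_smul, smul_c0, smul_c0, QuotientGroup.eq, Hsub_eq] at h1
  obtain ⟨b, hb⟩ := h1
  set ρ := val hx (sys.ρ.getD j.1 [])
  have hg : g = φP a * ρ * φP b := by rw [hb]; group
  have hz : F.φ (φP zc) = t := by rw [F.hext, C.map_zc]
  have hbz : φP b * φP zc * (φP b)⁻¹ = φP zc := by
    rw [← map_inv, ← map_mul, ← map_mul, (zc_comm b).symm.eq, mul_inv_cancel_right]
  have haz : (φP a)⁻¹ * φP zc * φP a = φP zc := by
    rw [← map_inv, ← map_mul, ← map_mul, mul_assoc, (zc_comm a).eq, inv_mul_cancel_left]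
  have hpow := sub_pow (j := j.1) (K_length ▸ j.2)
  have e3 : φP zc * (g * φP zc * g⁻¹) = φP a * (φP zc * (ρ * φP zc * ρ⁻¹)) * (φP a)⁻¹ := by
    rw [hg]
    calc φP zc * (φP a * ρ * φP b * φP zc * (φP a * ρ * φP b)⁻¹)
        = φP a * ((φP a)⁻¹ * φP zc * φP a) * (ρ * (φP b * φP zc * (φP b)⁻¹) * ρ⁻¹) * (φP a)⁻¹ := by
          group
      _ = _ := by rw [haz, hbz]; group
  have hn : (t * v') ^ (2 * subOrd.getD j.1 0) = 1 := by
    have key : F.φ ((φP zc * (g * φP zc * g⁻¹)) ^ (2 * subOrd.getD j.1 0)) = 1 := by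
      rw [e3, conj_pow, hpow]; simp
    revert key hz
    generalize φP zc = z
    intro hz key
    rwa [map_pow, map_mul, map_mul, map_mul, map_inv, hz, hy] at key
  refine orderOf_dvd_iff_pow_eq_one.1 (dvd_four (orderOf_dvd_iff_pow_eq_one.2 h)
    (orderOf_dvd_iff_pow_eq_one.2 hn) ?_)
  · have := (K_length ▸ j.2 : j.1 < 9)
    interval_cases j.1 <;> decide

theorem inT_mul_C : F.InT (t * C.rg 2) := by
  obtain ⟨e, he, h1, h2⟩ : ∃ e ∈ HNType.Data.invs, e.2.1 = 2 ∧ tC (mulX iT e.1) = true := by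
    decide +kernel
  have hok := List.all_eq_true.1 invs_ok e he
  simp only [invEntryOK, Bool.and_eq_true, Nat.beq_eq, Nat.blt_eq] at hok
  obtain ⟨⟨⟨he1, he2⟩, hew⟩, hkey⟩ := hok
  have hel : el e.1 = (pv e.2.2)⁻¹ * pv (rep e.2.1) * pv e.2.2 := by
    rw [el_of_key he1 (lw_append.2 ⟨lw_append.2 ⟨lw_winv hew, CMap.rep_lw _ he2⟩, hew⟩) hkey.symm,
      pv_append, pv_append, pv, val_winv (wgen_inv relP)]
  have hw : C.e (pv e.2.2) ∈ F.H := ⟨φP _, F.hext _⟩
  have hc : C.e (pv e.2.2) * F.E e.1 * (C.e (pv e.2.2))⁻¹ = C.rg 2 := by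
    rw [F.E_inner he1, hel, C.conj_eq (Or.inl rfl), CMap.rg, h1]; group
  have hcomm := (C.mem (pv e.2.2)).symm
  have hE := F.E_mul (show iT < 4096 by norm_num) (show e.1 < 4096 by omega)
  have hT : Commute t (F.E e.1) := by rw [F.E_inner he1]; exact (C.mem _).symm
  have hsq1 : F.E e.1 * F.E e.1 = 1 := by
    rw [F.E_inner he1, hel, C.conj_eq (Or.inl rfl)]
    have : C.e (pv (rep e.2.1)) * C.e (pv (rep e.2.1)) = 1 := by
      rw [h1]; exact InT.sq F F.rg_classes.2.1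
    rw [show ∀ a b : G, a⁻¹ * b * a * (a⁻¹ * b * a) = a⁻¹ * (b * b) * a from fun a b => by group, this]
    group
  have hsq : F.E (mulX iT e.1) * F.E (mulX iT e.1) = 1 := by
    rw [← hE.2, F.E_T, mul_assoc, ← mul_assoc (F.E e.1), ← hT.eq, mul_assoc t (F.E e.1), hsq1, mul_one,
      t_sq C]
  have h3 := (F.tC_iff hE.1 hsq).1 h2
  rw [← hE.2, F.E_T] at h3
  rw [show t * C.rg 2 = C.e (pv e.2.2) * (t * F.E e.1) * (C.e (pv e.2.2))⁻¹ by
    rw [← hc, ← mul_assoc, ← mul_assoc, hcomm.eq]; simp only [mul_assoc]]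
  exact InT.conj F h3 hw

/-- An involution commuting with a conjugate of the centre. -/
theorem sort_of_commute {w u : G} (hw : F.InT w) (hu : u * u = 1) (hu1 : u ≠ 1) (h : Commute u w) :
    F.InT u ∨ F.InB u := by
  obtain ⟨x, hx, rfl⟩ := hw
  have h' : Commute (x⁻¹ * u * x) t := by
    have := (Commute.conj_iff x⁻¹).2 h
    rwa [show x⁻¹ * (x * t * x⁻¹) * x⁻¹⁻¹ = t by group, inv_inv] at this
  have e : u = x * (x⁻¹ * u * x) * x⁻¹ := by group
  rcases F.inv_centralizer (u := x⁻¹ * u * x)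
    (by rw [show x⁻¹ * u * x * (x⁻¹ * u * x) = x⁻¹ * (u * u) * x by group, hu]; group)
    (fun h1 => hu1 (by rw [e, h1]; group)) h' with h1 | h1
  · exact Or.inl (e ▸ InT.conj F h1 hx)
  · exact Or.inr (e ▸ InB.conj F h1 hx)

/-- A conjugate of the centre whose product with it lies in the second class moves to the first
representative. -/
theorem exists_to_A {a : G} (ha : F.InT a) (hat : Commute a t) (hta : ¬ F.InT (t * a)) (hne : a ≠ t) :
    ∃ c : G, Commute c t ∧ c * a * c⁻¹ = C.rg 0 := by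
  obtain ⟨c, hct, k, hk, -, hck⟩ := C.inv_cover (InT.sq F ha) (InT.ne_one F ha) hat
  have hc : c ∈ F.H := F.mem_of_commute hct
  have hk' : F.InT (C.rg k) := hck ▸ InT.conj F ha hc
  have hs := F.rg_sort hk
  interval_cases k
  · exact ⟨c, hct, hck⟩
  · exact absurd hk' (InB.not_inT F hs)
  · refine absurd ?_ hta
    have := InT.conj F F.inT_mul_C (inv_mem hc)
    rwa [← hck, show c⁻¹ * (t * (c * a * c⁻¹)) * c⁻¹⁻¹ = (c⁻¹ * t * c) * a by group,
      mul_assoc c⁻¹ t c, ← hct.eq, inv_mul_cancel_left] at this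
  · exact absurd hk' (InB.not_inT F hs)
  · refine absurd ?_ hne
    rw [C.rg_four] at hck
    rw [show a = c⁻¹ * (c * a * c⁻¹) * c by group, hck, mul_assoc, ← hct.eq, inv_mul_cancel_left]

/-- The configuration of an element of order four inverted by `t`. -/
theorem four_frame {u : G} (hu : u ∈ F.H) (hu2 : u * u = 1) (h4 : (t * u) ^ 4 = 1)
    (hk1 : (t * u) ^ 2 ≠ 1) (hk : ¬ F.InT ((t * u) ^ 2)) :
    ∃ c : G, Commute c t ∧ c * (u * t * u) * c⁻¹ = C.rg 0 ∧ c * u * c⁻¹ ∈ (pairN (C := C)) := by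
  set a := u * t * u
  have hui : u⁻¹ = u := inv_eq_of_mul_eq_one_right hu2
  have ha : F.InT a := by
    have := InT.conj F F.inT_t hu
    rwa [hui] at this
  have hk2 : (t * u) ^ 2 = t * a := by rw [pow_two]; simp only [a, mul_assoc]
  have hat : Commute a t := by
    have h1 : (t * a) * (t * a) = 1 := by rw [← hk2, ← pow_two, ← pow_mul]; exact h4
    show a * t = t * a
    calc a * t = (t * t) * (a * t) * (a * a) := by rw [t_sq C, InT.sq F ha, one_mul, mul_one]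
      _ = t * ((t * a) * (t * a)) * a := by group
      _ = t * a := by rw [h1, mul_one]
  have hne : a ≠ t := fun e => hk1 (by rw [hk2, e, t_sq C])
  obtain ⟨c, hct, hca⟩ := F.exists_to_A ha hat (hk2 ▸ hk) hne
  refine ⟨c, hct, hca, Or.inr ⟨?_, ?_⟩⟩
  · calc c * u * c⁻¹ * t * (c * u * c⁻¹)⁻¹ = c * u * (c⁻¹ * t * c) * u⁻¹ * c⁻¹ := by group
      _ = c * a * c⁻¹ := by rw [mul_assoc c⁻¹ t c, ← hct.eq, inv_mul_cancel_left, hui]; simp only [a]; group
      _ = C.rg 0 := hca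
  · calc c * u * c⁻¹ * C.rg 0 * (c * u * c⁻¹)⁻¹ = c * (u * a * u⁻¹) * c⁻¹ := by rw [← hca]; group
      _ = c * t * c⁻¹ := by
        rw [hui, show u * a * u = (u * u) * t * (u * u) by simp only [a]; group, hu2, one_mul, mul_one]
      _ = t := by rw [hct.eq, mul_inv_cancel_right]

include F in
theorem pair_group :
    IsPGroup 2 (closure (insert t (insert (C.rg 0) (∅ : Set G)))) ∧
      closure (insert t (insert (C.rg 0) (∅ : Set G))) ≤ (pairN (C := C)) := by
  have hA := InT.sq F F.rg_classes.1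
  have hAt : Commute (C.rg 0) t := by
    rw [← F.E_A, F.E_inner (by norm_num)]; exact C.mem _
  refine ⟨isPGroup_insert_comm (isPGroup_insert_comm isPGroup_empty hA (by simp)) (t_sq C)
    (fun x hx => by rcases hx with rfl | hx <;> [exact hAt.symm; exact hx.elim]), ?_⟩
  rw [closure_le]
  rintro x (rfl | rfl | h)
  · exact Or.inl ⟨mul_inv_cancel_right x x, by rw [hAt.symm.eq, mul_inv_cancel_right]⟩
  · exact Or.inl ⟨by rw [hAt.eq, mul_inv_cancel_right], mul_inv_cancel_right _ _⟩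
  · exact h.elim

/-- An involution in the stabiliser of the pair. -/
theorem sort_of_pairN {u : G} (hu : u ∈ (pairN (C := C))) (hu2 : u * u = 1) (hu1 : u ≠ 1) :
    F.InT u ∨ F.InB u := by
  obtain ⟨hP0, hle0⟩ := F.pair_group
  have hP : IsPGroup 2 (closure (insert u (insert t (insert (C.rg 0) (∅ : Set G))))) := by
    refine isPGroup_insert hP0 hu2 fun x hx => ?_
    rcases hu with ⟨h1, h2⟩ | ⟨h1, h2⟩ <;> rcases hx with rfl | rfl | h
    all_goals first
      | exact h.elim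
      | (rw [h1]; exact subset_closure (by simp))
      | (rw [h2]; exact subset_closure (by simp))
  obtain ⟨n, hnt, -, hn⟩ := F.exists_frame _ hP (by
    rw [closure_le]
    exact Set.insert_subset hu (fun x hx => hle0 (subset_closure hx)))
  obtain ⟨i, hi, hiu⟩ := hn u (subset_closure (by simp))
  have hsq : F.E i * F.E i = 1 := by
    rw [hiu, show n * u * n⁻¹ * (n * u * n⁻¹) = n * (u * u) * n⁻¹ by group, hu2]; group
  have hne : i ≠ 0 := by
    intro h
    rw [h, F.E_zero] at hiu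
    exact hu1 (conj_eq_one_iff.1 hiu.symm)
  have hnH : n ∈ F.H := F.mem_of_commute hnt
  have e : u = n⁻¹ * (n * u * n⁻¹) * n⁻¹⁻¹ := by group
  rcases F.E_sort hi hsq hne with ⟨-, h⟩ | ⟨-, h⟩ <;> rw [hiu] at h
  · exact Or.inl (e ▸ InT.conj F h (inv_mem hnH))
  · exact Or.inr (e ▸ InB.conj F h (inv_mem hnH))

theorem sort_near_t {u : G} (hu : u ∈ F.H) (hu2 : u * u = 1) (hu1 : u ≠ 1) (h4 : (t * u) ^ 4 = 1) :
    F.InT u ∨ F.InB u := by
  have hui : u⁻¹ = u := inv_eq_of_mul_eq_one_right hu2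
  by_cases hk1 : (t * u) ^ 2 = 1
  · refine F.inv_centralizer hu2 hu1 ?_
    show u * t = t * u
    calc u * t = u⁻¹ * t⁻¹ := by rw [hui, inv_eq_of_mul_eq_one_right (t_sq C)]
      _ = (t * u)⁻¹ := (mul_inv_rev _ _).symm
      _ = t * u := inv_eq_of_mul_eq_one_right (by rw [← pow_two, hk1])
  by_cases hk : F.InT ((t * u) ^ 2)
  · refine F.sort_of_commute hk hu2 hu1 ?_
    have h : u * (t * u) ^ 2 * u⁻¹ = (u * (t * u) * u⁻¹) ^ 2 := (conj_pow).symm
    have h' : u * (t * u) * u⁻¹ = (t * u)⁻¹ := by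
      rw [mul_inv_rev, inv_eq_of_mul_eq_one_right (t_sq C), hui, mul_assoc u (t * u) u, mul_assoc t u u,
        hu2, mul_one]
    have h2 : ((t * u) ^ 2)⁻¹ = (t * u) ^ 2 :=
      inv_eq_of_mul_eq_one_right (by rw [← pow_add]; exact h4)
    rw [h', inv_pow, h2] at h
    exact mul_inv_eq_iff_eq_mul.1 h
  · obtain ⟨c, hct, -, hcu⟩ := F.four_frame hu hu2 h4 hk1 hk
    have hc : c ∈ F.H := F.mem_of_commute hct
    have e : u = c⁻¹ * (c * u * c⁻¹) * c⁻¹⁻¹ := by group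
    rcases F.sort_of_pairN hcu
      (by rw [show c * u * c⁻¹ * (c * u * c⁻¹) = c * (u * u) * c⁻¹ by group, hu2]; group)
      (fun h => hu1 (conj_eq_one_iff.1 h)) with h | h
    · exact Or.inl (e ▸ InT.conj F h (inv_mem hc))
    · exact Or.inr (e ▸ InB.conj F h (inv_mem hc))

/-- An involution at distance two from a conjugate of the centre. -/
theorem sort_near {w u : G} (hw : F.InT w) (hu : u ∈ F.H) (hu2 : u * u = 1) (hu1 : u ≠ 1)
    (h4 : (w * u) ^ 4 = 1) : F.InT u ∨ F.InB u := by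
  obtain ⟨x, hx, rfl⟩ := hw
  have e : u = x * (x⁻¹ * u * x) * x⁻¹ := by group
  have h4' : (t * (x⁻¹ * u * x)) ^ 4 = 1 := by
    rw [show x * t * x⁻¹ * u = x * (t * (x⁻¹ * u * x)) * x⁻¹ by group, conj_pow, conj_eq_one_iff] at h4
    exact h4
  rcases F.sort_near_t (u := x⁻¹ * u * x) (mul_mem (mul_mem (inv_mem hx) hu) hx)
    (by rw [show x⁻¹ * u * x * (x⁻¹ * u * x) = x⁻¹ * (u * u) * x by group, hu2]; group)
    (fun h1 => hu1 (by rw [e, h1]; group)) h4' with h | h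
  · exact Or.inl (e ▸ InT.conj F h hx)
  · exact Or.inr (e ▸ InB.conj F h hx)

end Emb

end Cfsg.Lib.HNType.Over
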