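import Cfsg.Agent.Lib.HNType.Over.EqsDef

/-!
# The outer representatives, part C
-/

set_option autoImplicit false
set_option maxRecDepth 100000
set_option maxHeartbeats 0
set_option Elab.async false

namespace Cfsg.Lib.HNType.Over

open Cfsg.Lib.HN Cfsg.Lib.HN.Top

theorem outEq6 : outEqOK (Data.outReps.getD 6 (0, false, [])) = true := by
  rw [outEqOK, Bool.and_eq_true]
  exact ⟨(oneChk_of (by decide +kernel) (by decide +kernel) (by decide +kernel) (by decide +kernel)
    (by decide +kernel)), by decide +kernel⟩

end Cfsg.Lib.HNType.Over
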