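import Cfsg.Agent.Lib.HNType.Over.EqsOutA
import Cfsg.Agent.Lib.HNType.Over.EqsOutB
import Cfsg.Agent.Lib.HNType.Over.EqsOutC
import Cfsg.Agent.Lib.HNType.Over.EqsOutD
import Cfsg.Agent.Lib.HNType.Over.EqsOutE

/-!
# The outer representatives
-/

set_option autoImplicit false

namespace Cfsg.Lib.HNType.Over

theorem outEq : Data.outReps.all outEqOK = true := by
  refine List.all_eq_true.2 fun e he => ?_
  obtain ⟨k, hk, rfl⟩ := List.mem_iff_getElem.1 he
  have hlen : Data.outReps.length = 8 := by decide
  rw [← List.getD_eq_getElem Data.outReps (0, false, []) hk]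
  rw [hlen] at hk
  interval_cases k
  · exact outEq0
  · exact outEq1
  · exact outEq2
  · exact outEq3
  · exact outEq4
  · exact outEq5
  · exact outEq6
  · exact outEq7

end Cfsg.Lib.HNType.Over
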