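import Cfsg.Agent.Lib.HNType.Over.EqsDef

/-!
# The images of the last two generators and the square
-/

set_option autoImplicit false
set_option maxRecDepth 100000
set_option maxHeartbeats 0
set_option Elab.async false

namespace Cfsg.Lib.HNType.Over

open Cfsg.Lib.HN Cfsg.Lib.HN.Top

theorem sigEq2 : sigEqOK 2 = true := 
  (oneChk_of (by decide +kernel) (by decide +kernel) (by decide +kernel) (by decide +kernel)
    (by decide +kernel))

theorem sigEq3 : sigEqOK 3 = true := 
  (oneChk_of (by decide +kernel) (by decide +kernel) (by decide +kernel) (by decide +kernel)
    (by decide +kernel))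

theorem sqEq : oneChk ((Data.sWord ++ Data.sWord) ++ winv (rword sIdx)) = true :=
  (oneChk_of (by decide +kernel) (by decide +kernel) (by decide +kernel) (by decide +kernel)
    (by decide +kernel))

end Cfsg.Lib.HNType.Over
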