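import Cfsg.Agent.Lib.HNType.Over.EqsDef

/-!
# The suborbits
-/

set_option autoImplicit false
set_option maxRecDepth 100000
set_option maxHeartbeats 0
set_option Elab.async false

namespace Cfsg.Lib.HNType.Over

open Cfsg.Lib.HN Cfsg.Lib.HN.Top

theorem subEq : (List.range 9).all subEqOK = true := by decide +kernel

end Cfsg.Lib.HNType.Over
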