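import Cfsg.Agent.Lib.HNType.Over.EqsSigA
import Cfsg.Agent.Lib.HNType.Over.EqsSigB
import Cfsg.Agent.Lib.HNType.Over.EqsOut
import Cfsg.Agent.Lib.HNType.Over.EqsSub

/-!
# The equations in `HN` behind the table
-/

set_option autoImplicit false
set_option maxRecDepth 100000
set_option maxHeartbeats 0
set_option Elab.async false

namespace Cfsg.Lib.HNType.Over

open Cfsg.Lib.HN Cfsg.Lib.HN.Top Cfsg.Lib.HN.Sub100

theorem sHN_sq : sHN * sHN = elHN sIdx := by
  rw [elHN_val (by decide), sHN, ← val_append]
  exact eq_of_chk (rword_small (by decide)) sqEq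

theorem sHN_conj {j : ℕ} (hj : j < 4) (hs : sig (lmN j 0) < 2048) :
    sHN⁻¹ * val hx (HNType.Data.gens.getD j []) * sHN = elHN (sig (lmN j 0)) := by
  have h : sigEqOK j = true := by interval_cases j; exacts [sigEq0, sigEq1, sigEq2, sigEq3]
  rw [elHN_val hs]
  have h1 := eq_of_chk (rword_small hs) h
  rw [val_append, val_append] at h1
  rw [← h1, mul_assoc, show (Data.sWord.map linv).reverse = winv Data.sWord from rfl]
  congr 1
  have hl : ∀ g ∈ Data.sWord, g < 7 := by decide
  refine (eq_inv_of_mul_eq_one_left ?_).symm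
  exact val_winv_mul Data.sWord hl
where
  /-- An inverse word cancels. -/
  val_winv_mul : ∀ (b : List ℕ), (∀ g ∈ b, g < 7) → val hx (winv b) * val hx b = 1
    | [], _ => by simp [winv]
    | g :: l, hl => by
      have hwc : winv (g :: l) = winv l ++ [linv g] := by simp [winv]
      have hg := hl g (by simp)
      have hinv : hx (linv g) * hx g = 1 := by
        obtain ⟨i4, i5, i6⟩ := hx_inv'
        have hz : hx 2 * hx 2 = 1 := by
          have := hn_basic.2.2.2.2.2.2.1; rwa [sq] at this
        interval_cases g <;> simp [linv, i4, i5, i6, hz]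
      rw [hwc, val_append, val_cons, val_nil, mul_one, val_cons, mul_assoc,
        ← mul_assoc (hx (linv g)), hinv, one_mul]
      exact val_winv_mul l (fun k hk => hl k (by simp [hk]))

theorem val_winv_small {b : List ℕ} (h : ∀ g ∈ b, g < 7) : val hx (winv b) = (val hx b)⁻¹ :=
  eq_inv_of_mul_eq_one_left (sHN_conj.val_winv_mul b h)

/-- An outer representative is a conjugate of the central involution or of the second class. -/
theorem out_conj {e : ℕ × Bool × List ℕ} (he : e ∈ Data.outReps) (hi : e.1 < 4096) (hi' : 2048 ≤ e.1) :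
    ∃ w : Spor.HN, sHN * elHN (e.1 - 2048) =
      w⁻¹ * φP (cond e.2.1 zc (pv HNType.Data.repB)) * w := by
  have h := List.all_eq_true.1 outEq e he
  simp only [outEqOK, Bool.and_eq_true] at h
  obtain ⟨h, hw⟩ := h
  have hw' : ∀ g ∈ e.2.2, g < 7 := fun g hg => Nat.blt_eq.mp (List.all_eq_true.1 hw g hg)
  refine ⟨val hx e.2.2, ?_⟩
  have hm : ∀ g ∈ cond e.2.1 [0, 0] HNType.Data.repB, g ∈ [0, 1, 2, 4, 5] := by
    clear h hw hw' he hi hi'
    cases e.2.1
    · exact mem_of_lettersIn (by decide +kernel)
    · exact mem_of_lettersIn (by decide)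
  have hφ : φP (cond e.2.1 zc (pv HNType.Data.repB)) =
      val hx (cond e.2.1 [0, 0] HNType.Data.repB) := by
    rw [← φP_val hm]
    cases e.2.1
    · rfl
    · exact congrArg φP zc_val.symm
  have hb : (winv e.2.2 ++ ((cond e.2.1 [0, 0] HNType.Data.repB) ++ e.2.2)).all
      (fun g => Nat.blt g 7) = true := by
    refine List.all_eq_true.2 fun g hg => Nat.blt_eq.mpr ?_
    simp only [List.mem_append, winv, List.mem_reverse, List.mem_map] at hg
    rcases hg with ⟨k, hk, rfl⟩ | hg | hg
    · have := hw' k hk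
      interval_cases k <;> decide
    · have := hm g hg
      simp only [List.mem_cons, List.not_mem_nil, or_false] at this
      omega
    · exact hw' g hg
  rw [hφ, elHN_val (by omega), sHN, ← val_winv_small hw', ← val_append, ← val_append, ← val_append,
    List.append_assoc]
  exact eq_of_chk hb h

/-- A power of a product with a suborbit representative lies in the subgroup. -/
theorem sub_mem {j : ℕ} (hj : j < 9) :
    (φP zc * (val hx (sys.ρ.getD j []) * φP zc * (val hx (sys.ρ.getD j []))⁻¹)) ^
      subOrd.getD j 0 ∈ Hsub := by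
  have hs := List.all_eq_true.1 subEq j (List.mem_range.2 hj)
  simp only [subEqOK, Bool.and_eq_true, List.all_eq_true, Nat.blt_eq] at hs
  have h := (fix_of_zero hs.1 hs.2).2
  have hl : ∀ k < 9, ∀ g ∈ sys.ρ.getD k [], g < 7 := by decide +kernel
  have hz : φP zc = val hx [0, 0] := by
    rw [← φP_val (mem_of_lettersIn (by decide)), ← zc_val]
  rw [hz, ← val_winv_small (hl j hj), mul_assoc, ← val_append, ← val_append, ← val_append]
  rw [show [0, 0] ++ (sys.ρ.getD j [] ++ ([0, 0] ++ winv (sys.ρ.getD j []))) = subWord j from rfl]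
  suffices e : ∀ n : ℕ, val hx (subWord j) ^ n = val hx (List.replicate n (subWord j)).flatten by
    rw [e]; exact h
  intro n
  induction n with
  | zero => simp
  | succ n ih => rw [pow_succ', ih, List.replicate_succ, List.flatten_cons, val_append]

/-- The products with the suborbit representatives have orders dividing ten, six or four. -/
theorem sub_pow {j : ℕ} (hj : j < 9) :
    (φP zc * (val hx (sys.ρ.getD j []) * φP zc * (val hx (sys.ρ.getD j []))⁻¹)) ^
      (2 * subOrd.getD j 0) = 1 := by
  obtain ⟨a, ha⟩ := Hsub_eq ▸ sub_mem hj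
  set z := φP zc
  set ρ := val hx (sys.ρ.getD j [])
  have hz2 : z * z = 1 := by
    have e : zc * zc = 1 := by
      have h : keyOf [0, 0, 0, 0] = keyOf [] := by decide +kernel
      have := eq_of_key (a := [0, 0, 0, 0]) (b := []) (by decide) (by decide) h
      simpa [zc, mul_assoc] using this
    show φP zc * φP zc = 1
    rw [← map_mul, e, map_one]
  set p := z * (ρ * z * ρ⁻¹)
  set n := subOrd.getD j 0
  have hinv : z * p * z⁻¹ = p⁻¹ := by
    have zi : z⁻¹ = z := inv_eq_of_mul_eq_one_right hz2
    show z * (z * (ρ * z * ρ⁻¹)) * z⁻¹ = (z * (ρ * z * ρ⁻¹))⁻¹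
    rw [mul_inv_rev, mul_inv_rev, mul_inv_rev, inv_inv, zi, ← mul_assoc z z, hz2, one_mul]
    group
  have hc : z * p ^ n * z⁻¹ = p ^ n := by
    rw [← ha]
    show φP zc * φP a * (φP zc)⁻¹ = φP a
    rw [← map_inv, ← map_mul, ← map_mul, (zc_comm a).eq, mul_inv_cancel_right]
  rw [← conj_pow, hinv, inv_pow] at hc
  rw [two_mul, pow_add]
  nth_rewrite 1 [← hc]
  exact inv_mul_cancel _

end Cfsg.Lib.HNType.Over
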