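import Cfsg.Agent.Lib.HN.TopHom
import Cfsg.Agent.Lib.HNType.Keys

/-!
# Equations in `HN` read off from the action on five cosets
-/

set_option autoImplicit false
set_option maxRecDepth 100000

namespace Cfsg.Lib.HNType.Over

open Cfsg.Lib.HN Cfsg.Lib.HN.Top Cfsg.Lib.HN.Top.Data
open Cfsg.Lib.CosetEnum (force force_eq)

/-- A word moving the base point of the model to the given point. -/
noncomputable def dWord (p : ℕ) : List ℕ := odata.tau 0 p ++ winv (odata.tau 0 0)

/-- A word as a number: base eight, first letter lowest, with a leading one. -/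
def encW : List ℕ → ℕ
  | [] => 1
  | g :: l => 8 * encW l + g

/-- Image of a point under a coded word of the given length. -/
noncomputable def walkN : ℕ → ℕ → ℕ → ℕ
  | 0, _, i => i
  | n + 1, c, i => force (img sys.P (Nat.land c 7) i) fun i' =>
      force (Nat.shiftRight c 3) fun c' => walkN n c' i'

/-- The same, twenty letters at a time. -/
noncomputable def walkB : ℕ → ℕ → ℕ → ℕ → ℕ
  | 0, n, c, i => walkN n c i
  | f + 1, n, c, i => cond (Nat.ble 21 n)
      (force (walkN 20 (Nat.land c 1152921504606846975) i) fun i' =>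
        force (Nat.shiftRight c 60) fun c' => force (Nat.sub n 20) fun n' => walkB f n' c' i')
      (walkN n c i)

theorem walkN_mod : ∀ (k c c' i : ℕ), c % 2 ^ (3 * k) = c' % 2 ^ (3 * k) → walkN k c i = walkN k c' i
  | 0, _, _, _, _ => rfl
  | k + 1, c, c', i, h => by
    have e : 2 ^ (3 * (k + 1)) = 8 * 2 ^ (3 * k) := by rw [Nat.mul_add, Nat.pow_add]; ring
    rw [e, Nat.mod_mul, Nat.mod_mul] at h
    have h1 := Nat.mod_lt c (show 8 > 0 by norm_num)
    have h2 := Nat.mod_lt c' (show 8 > 0 by norm_num)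
    simp only [walkN, force_eq]
    have l1 : Nat.land c 7 = c % 8 := Nat.and_two_pow_sub_one_eq_mod c 3
    have l2 : Nat.land c' 7 = c' % 8 := Nat.and_two_pow_sub_one_eq_mod c' 3
    have r1 : ∀ x : ℕ, Nat.shiftRight x 3 = x / 8 := fun x => Nat.shiftRight_eq_div_pow x 3
    rw [l1, l2, r1, r1, show c % 8 = c' % 8 by omega]
    exact walkN_mod k _ _ _ (by omega)

theorem walkN_add : ∀ (k m c i : ℕ), walkN (k + m) c i = walkN m (c >>> (3 * k)) (walkN k c i)
  | 0, m, c, i => by simp [walkN]
  | k + 1, m, c, i => by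
    rw [show k + 1 + m = (k + m) + 1 by omega]
    simp only [walkN, force_eq]
    rw [walkN_add k m, show 3 * (k + 1) = 3 + 3 * k by ring, Nat.shiftRight_add]
    rfl

theorem walkB_eq : ∀ (f n c i : ℕ), walkB f n c i = walkN n c i
  | 0, n, c, i => rfl
  | f + 1, n, c, i => by
    simp only [walkB, force_eq]
    rcases Nat.lt_or_ge n 21 with h | h
    · rw [show Nat.ble 21 n = false from Bool.eq_false_iff.2 fun e => by have := Nat.le_of_ble_eq_true e; omega]
      rfl
    · rw [show Nat.ble 21 n = true from Nat.ble_eq_true_of_le h, cond_true, walkB_eq f]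
      have e : walkN 20 (Nat.land c 1152921504606846975) i = walkN 20 c i := by
        refine walkN_mod 20 _ _ _ ?_
        show (c &&& (2 ^ 60 - 1)) % 2 ^ 60 = c % 2 ^ 60
        rw [Nat.and_two_pow_sub_one_eq_mod, Nat.mod_mod]
      rw [e]
      conv_rhs => rw [show n = 20 + (n - 20) by omega, walkN_add]
      rfl

/-- The transformation on coded states. -/
noncomputable def evTN (j n c : ℕ) (k : ℕ → ℕ → ℕ → Bool) : Bool :=
  force (walkB n n c 0) fun i => force (odata.cls j i) fun r =>
    force (encW (odata.tau j i ++ (odata.rec' r).W)) fun e =>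
      force (odata.rec' r).k fun j' =>
        force (Nat.add n (odata.tau j i ++ (odata.rec' r).W).length) fun n' =>
          force (Nat.add (Nat.shiftLeft (Nat.sub e 1) (Nat.mul 3 n)) c) fun c' => k j' n' c'

/-- A word on coded states, last letter first. -/
noncomputable def evN : List ℕ → ℕ → ℕ → ℕ → (ℕ → ℕ → ℕ → Bool) → Bool
  | [], j, n, c, k => k j n c
  | 3 :: w, j, n, c, k => evN w j n c fun j n c => evTN j n c k
  | 6 :: w, j, n, c, k => evN w j n c fun j n c => evTN j n c fun j n c => evTN j n c fun j n c =>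
      evTN j n c fun j n c => evTN j n c k
  | g :: w, j, n, c, k => evN w j n c fun j n c => force (Nat.add n 1) fun n' =>
      force (Nat.add (Nat.mul 8 c) g) fun c' => k j n' c'

/-- Image of a point under the inverse of a coded word. -/
noncomputable def iwalkN : ℕ → ℕ → ℕ → ℕ
  | 0, _, i => i
  | n + 1, c, i => force (iwalkN n (Nat.shiftRight c 3) i) fun i' =>
      img sys.P (linv (Nat.land c 7)) i'

/-- The five checks that a word is trivial. -/
noncomputable def oneChk (r : List ℕ) : Bool :=
  (r.all fun g => Nat.blt g 7) && (evN r 0 0 1 fun j _ _ => Nat.beq j 0) &&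
    bpts.all fun p =>
      force (encW (dWord p)) fun d => force (dWord p).length fun l =>
        Nat.beq (iwalkN l d 0) p &&
          evN r 1 l d fun j n c => Nat.beq j 1 && Nat.beq (iwalkN n c 0) p

/-- The first check and the letters. -/
noncomputable def chkO (r : List ℕ) : Bool :=
  (r.all fun g => Nat.blt g 7) && (evN r 0 0 1 fun j _ _ => Nat.beq j 0)

/-- The check at one base point. -/
noncomputable def chkP (r : List ℕ) (i : ℕ) : Bool :=
  force (bpts.getD i 0) fun p =>
    force (encW (dWord p)) fun d => force (dWord p).length fun l =>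
      Nat.beq (iwalkN l d 0) p &&
        evN r 1 l d fun j n c => Nat.beq j 1 && Nat.beq (iwalkN n c 0) p

/-- The checks may be made one at a time. -/
theorem oneChk_of {r : List ℕ} (h : chkO r = true) (h0 : chkP r 0 = true) (h1 : chkP r 1 = true)
    (h2 : chkP r 2 = true) (h3 : chkP r 3 = true) : oneChk r = true := by
  have hb : bpts = [bpts.getD 0 0, bpts.getD 1 0, bpts.getD 2 0, bpts.getD 3 0] := rfl
  simp only [chkP, force_eq] at h0 h1 h2 h3
  simp only [oneChk, force_eq]
  rw [hb]
  simp only [List.all_cons, List.all_nil, h0, h1, h2, h3, Bool.and_true]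
  exact h

theorem encW_pos : ∀ l : List ℕ, 1 ≤ encW l
  | [] => le_rfl
  | g :: l => by have := encW_pos l; simp only [encW]; omega

theorem encW_append : ∀ {a : List ℕ}, (∀ g ∈ a, g < 8) → ∀ b : List ℕ,
    encW (a ++ b) = Nat.add (Nat.shiftLeft (Nat.sub (encW b) 1) (Nat.mul 3 a.length)) (encW a)
  | [], _, b => by
    show encW b = (encW b - 1) <<< (3 * 0) + 1
    have := encW_pos b
    simp only [Nat.mul_zero, Nat.shiftLeft_zero]; omega
  | g :: a, h, b => by
    show 8 * encW (a ++ b) + g = (encW b - 1) <<< (3 * (a.length + 1)) + (8 * encW a + g)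
    rw [encW_append (fun x hx => h x (by simp [hx])) b]
    show 8 * ((encW b - 1) <<< (3 * a.length) + encW a) + g = _
    simp only [Nat.shiftLeft_eq, Nat.mul_add, Nat.pow_add]
    ring

theorem encW_digit {g : ℕ} (hg : g < 8) (l : List ℕ) :
    Nat.land (encW (g :: l)) 7 = g ∧ Nat.shiftRight (encW (g :: l)) 3 = encW l := by
  constructor
  · show (8 * encW l + g) &&& (2 ^ 3 - 1) = g
    rw [Nat.and_two_pow_sub_one_eq_mod]; omega
  · show (8 * encW l + g) >>> 3 = _
    rw [Nat.shiftRight_eq_div_pow]; omega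

theorem walkN_eq : ∀ {l : List ℕ}, (∀ g ∈ l, g < 8) → ∀ i, walkN l.length (encW l) i = twalk sys.P l i
  | [], _, i => rfl
  | g :: l, h, i => by
    obtain ⟨e1, e2⟩ := encW_digit (h g (by simp)) l
    rw [List.length_cons, walkN, force_eq, force_eq, e1, e2, walkN_eq (fun x hx => h x (by simp [hx]))]
    simp [twalk, force_eq]

theorem twalk_snoc : ∀ (a b : List ℕ) (i : ℕ), twalk sys.P (a ++ b) i = twalk sys.P b (twalk sys.P a i)
  | [], b, i => rfl
  | g :: a, b, i => by
    show force (img sys.P g i) (twalk sys.P (a ++ b)) = twalk sys.P b (force (img sys.P g i) (twalk sys.P a))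
    rw [force_eq, force_eq, twalk_snoc a b]

theorem iwalkN_eq : ∀ {l : List ℕ}, (∀ g ∈ l, g < 8) → ∀ i,
    iwalkN l.length (encW l) i = twalk sys.P (winv l) i
  | [], _, i => rfl
  | g :: l, h, i => by
    obtain ⟨e1, e2⟩ := encW_digit (h g (by simp)) l
    rw [List.length_cons, iwalkN, force_eq, e1, e2, iwalkN_eq (fun x hx => h x (by simp [hx])),
      show winv (g :: l) = winv l ++ [linv g] by simp [winv], twalk_snoc]
    simp [twalk, force_eq]

theorem lt_eight {l : List ℕ} (h : lettersIn sys.S l = true) : ∀ g ∈ l, g < 8 := fun g hg => by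
  have := mem_of_lettersIn h g hg
  simp only [sys, List.mem_cons, List.not_mem_nil, or_false] at this
  omega

theorem evTN_eq {j : ℕ} {h : List ℕ} (hh : lettersIn sys.S h = true) (k : ℕ → ℕ → ℕ → Bool) :
    evTN j h.length (encW h) k = k (evT sys odata (j, h)).1 (evT sys odata (j, h)).2.length
      (encW (evT sys odata (j, h)).2) := by
  simp only [evTN, evT, force_eq, walkB_eq, walkN_eq (lt_eight hh)]
  rw [← encW_append (lt_eight hh), Nat.add_eq]
  simp only [List.length_append]

/-- The coded evaluation agrees with the evaluation. -/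
theorem evN_eq : ∀ {w : List ℕ}, (∀ g ∈ w, g < 7) → ∀ {j : ℕ} {h : List ℕ}, j < 9 →
    lettersIn sys.S h = true → ∀ k, evN w j h.length (encW h) k =
      k (evW sys odata w (j, h)).1 (evW sys odata w (j, h)).2.length
        (encW (evW sys odata w (j, h)).2)
  | [], _, j, h, _, _, k => rfl
  | g :: w, hw, j, h, hj, hh, k => by
    have hw' : ∀ a ∈ w, a < 7 := fun a ha => hw a (by simp [ha])
    have hg := hw g (by simp)
    obtain ⟨-, h1, h2⟩ := actW_pt hw' (p := (j, h)) hj hh
    have ih := fun k => evN_eq hw' (h := h) hj hh k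
    have step : ∀ {p : ℕ × List ℕ}, p.1 < 9 → lettersIn sys.S p.2 = true →
        (∀ k, evTN p.1 p.2.length (encW p.2) k = k (evT sys odata p).1 (evT sys odata p).2.length
          (encW (evT sys odata p).2)) ∧
        (evT sys odata p).1 < 9 ∧ lettersIn sys.S (evT sys odata p).2 = true :=
      fun {p} a b => ⟨fun k => evTN_eq (j := p.1) b k, (tF_pt a b).2.1, (tF_pt a b).2.2⟩
    have hgen : g ≠ 3 → g ≠ 6 → evN (g :: w) j h.length (encW h) k =
        k (evW sys odata (g :: w) (j, h)).1 (evW sys odata (g :: w) (j, h)).2.length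
          (encW (evW sys odata (g :: w) (j, h)).2) := by
      intro n3 n6
      rw [evW_cons n3 n6, evN, ih]
      · simp only [force_eq]
        rfl
      · exact fun h => n3 h
      · exact fun h => n6 h
    rcases eq_or_ne g 3 with rfl | n3
    · rw [evN, ih, (step h1 h2).1, evW]
    rcases eq_or_ne g 6 with rfl | n6
    · obtain ⟨a1, b1, c1⟩ := step h1 h2
      obtain ⟨a2, b2, c2⟩ := step b1 c1
      obtain ⟨a3, b3, c3⟩ := step b2 c2
      obtain ⟨a4, -, -⟩ := step b3 c3
      rw [evN, ih]
      simp only [a1, a2, a3, a4, evW]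
    exact hgen n3 n6

theorem dWord_letters (p : ℕ) : lettersIn sys.S (dWord p) = true :=
  by
  rw [dWord, lettersIn_append, tau_letters 0 p, Bool.true_and]
  exact lettersIn_winv symS_P (tau_letters 0 0)

theorem kgens_one_le : odata.Kj (wgen relP) ⟨1, by rw [K_length]; norm_num⟩ ≤ stab0 := by
  refine (Subgroup.closure_le _).2 ?_
  rintro _ ⟨u, hu, rfl⟩
  refine Fin.ext ?_
  rw [eval_zero (kgens_letters odata_valid 1 u hu)]
  show _ = 0
  exact (show ∀ u ∈ odata.kgens 1, twalk sys.P (winv u) 0 = 0 by decide +kernel) u hu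

/-- A word whose evaluation stays in the first orbit fixes the first coset. -/
theorem fix_of_zero {r : List ℕ} (hlt : ∀ g ∈ r, g < 7)
    (h : evN r 0 0 1 (fun j _ _ => Nat.beq j 0) = true) :
    act (val hx r) ω0 = ω0 ∧ val hx r ∈ Hsub := by
  have h0 : (evW sys odata r (0, [])).1 = 0 := by
    have e := evN_eq hlt (j := 0) (h := []) (by norm_num) rfl (fun j _ _ => Nat.beq j 0)
    exact Nat.beq_eq.mp (e.symm.trans h)
  set g := val hx r
  obtain ⟨e0, ej, el0⟩ := actW_pt hlt (p := (0, [])) (by norm_num) rfl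
  have hω : act g ω0 = ω0 := by
    rw [act_hx hlt, show ω0 = pt (0, []) from rfl, e0]
    set s := evW sys odata r (0, [])
    set J : Fin odata.K.length := ⟨0, by rw [K_length]; norm_num⟩
    rw [show s = (J.1, s.2) from Prod.ext h0 rfl, pt_eq]
    show _ = pt (0, [])
    rw [show ((0, []) : ℕ × List ℕ) = (J.1, []) from rfl, pt_eq]
    refine OData.mk'_eq ?_
    have htop : odata.Kj (wgen relP) J = ⊤ := by
      refine top_le_iff.1 ?_
      rw [← wgen_closure relP (S := [0, 1, 2]) ?_, Subgroup.closure_le]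
      · rintro _ ⟨i, hi, rfl⟩
        have hmem : [i] ∈ odata.kgens 0 :=
          (show ∀ i ∈ [0, 1, 2], [i] ∈ odata.kgens 0 by decide +kernel) i hi
        simpa [OData.Kj] using val_mem_wordSub (x := wgen relP) hmem
      · intro i hi
        interval_cases i
        · exact Or.inl (by simp)
        · exact Or.inl (by simp)
        · exact Or.inl (by simp)
        · refine Or.inr ?_
          simpa using wgen_rel relP [3] (by simp)
    rw [htop]
    trivial
  refine ⟨hω, ?_⟩
  have h1 := toCos_act g ω0
  rw [hω, toCos_ω0, smul_c0, c0, QuotientGroup.eq, inv_one, one_mul] at h1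
  exact h1

/-- A word passing the checks is trivial. -/
theorem eq_one_of_chk {r : List ℕ} (h : oneChk r = true) : val hx r = 1 := by
  simp only [oneChk, Bool.and_eq_true, List.all_eq_true, Nat.blt_eq, force_eq] at h
  obtain ⟨⟨hlt, h0'⟩, hp'⟩ := h
  have hp : ∀ p ∈ bpts, twalk sys.P (winv (dWord p)) 0 = p ∧
      (evW sys odata r (1, dWord p)).1 = 1 ∧
        twalk sys.P (winv (evW sys odata r (1, dWord p)).2) 0 = p := by
    intro p hpm
    obtain ⟨e1, e2⟩ := hp' p hpm
    have hl := lt_eight (dWord_letters p)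
    rw [iwalkN_eq hl] at e1
    rw [evN_eq hlt (by norm_num) (dWord_letters p)] at e2
    simp only [Bool.and_eq_true, Nat.beq_eq] at e1 e2
    obtain ⟨-, -, el⟩ := actW_pt hlt (p := (1, dWord p)) (by norm_num) (dWord_letters p)
    rw [iwalkN_eq (lt_eight el)] at e2
    exact ⟨e1, e2⟩
  set g := val hx r
  have hgH : g ∈ Hsub := (fix_of_zero hlt h0').2
  rw [Hsub_eq] at hgH
  obtain ⟨a, ha⟩ := hgH
  suffices a = 1 by rw [← ha, this, map_one]
  refine PS_base.2 a 1 fun L hL i hi => ?_
  rw [map_one]
  have hb : i.1 ∈ bpts := by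
    rw [hi, ← points_eq]
    exact List.mem_map.2 ⟨L, hL, rfl⟩
  obtain ⟨hd, hs1, hs2⟩ := hp i.1 hb
  set d := dWord i.1
  have hd' : ψP (val (wgen relP) d) o = i := Fin.ext ((eval_zero (dWord_letters _)).trans hd)
  obtain ⟨e1, -, el1⟩ := actW_pt hlt (p := (1, d)) (by norm_num) (dWord_letters _)
  set s := evW sys odata r (1, d)
  set J : Fin odata.K.length := ⟨1, by rw [K_length]; norm_num⟩
  have h2 : act g (pt (1, d)) = pt (1, s.2) := by
    rw [act_hx hlt, e1, show s = (1, s.2) from Prod.ext hs1 rfl]
  rw [← ha, show act (φP a) = smHom a from DFunLike.congr_fun act_φP a,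
    show ((1, d) : ℕ × List ℕ) = (J.1, d) from rfl,
    show ((1, s.2) : ℕ × List ℕ) = (J.1, s.2) from rfl, pt_eq, pt_eq] at h2
  change sm a (odata.mk' (wgen relP) J (val (wgen relP) d)) = _ at h2
  rw [sm, osmul_mk, OData.mk', OData.mk'] at h2
  have h3 := kgens_one_le (QuotientGroup.eq.1 (eq_of_heq (Sigma.mk.inj h2).2))
  have h4 : ψP ((a * val (wgen relP) d)⁻¹ * val (wgen relP) s.2) o = o := h3
  rw [map_mul, Equiv.Perm.mul_apply, map_inv, Equiv.Perm.inv_eq_iff_eq, map_mul,
    Equiv.Perm.mul_apply, hd'] at h4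
  rw [← h4]
  exact Fin.ext ((eval_zero el1).trans hs2)

/-- A word passing the checks, in the form of an equation. -/
theorem eq_of_chk {a b : List ℕ} (hb : b.all (fun g => Nat.blt g 7) = true)
    (h : oneChk (a ++ winv b) = true) : val hx a = val hx b := by
  have h1 := eq_one_of_chk h
  have hb' : ∀ g ∈ b, g < 7 := fun g hg => Nat.blt_eq.mp (List.all_eq_true.1 hb g hg)
  have h2 : val hx (winv b) = (val hx b)⁻¹ := by
    refine eq_inv_of_mul_eq_one_left ?_
    clear h h1 hb
    induction b with
    | nil => simp [winv]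
    | cons g l ih =>
      have hwc : winv (g :: l) = winv l ++ [linv g] := by simp [winv]
      have hg := hb' g (by simp)
      have hinv : hx (linv g) * hx g = 1 := by
        obtain ⟨i4, i5, i6⟩ := hx_inv'
        have hz : hx 2 * hx 2 = 1 := by
          have := hn_basic.2.2.2.2.2.2.1; rwa [sq] at this
        interval_cases g <;> simp [linv, i4, i5, i6, hz]
      rw [hwc, val_append, val_cons, val_nil, mul_one, val_cons, mul_assoc, ← mul_assoc (hx (linv g)),
        hinv, one_mul]
      exact ih (fun k hk => hb' k (by simp [hk]))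
  rw [val_append, h2, mul_inv_eq_one] at h1
  exact h1

end Cfsg.Lib.HNType.Over
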