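import Cfsg.Agent.Lib.HNType.SylChecks
import Cfsg.Agent.Lib.HNType.Over.Data

/-!
# Arithmetic of the group of order 4096, and the checks on it

A number below 2048 stands for a row of the Sylow 2-subgroup, a number from 2048 on for the exchanging
element times a row.
-/

set_option autoImplicit false
set_option maxRecDepth 100000
set_option maxHeartbeats 0

namespace Cfsg.Lib.HNType.Over

open Cfsg.Lib.CosetEnum (force)

/-- Left product with a generator. -/
noncomputable def lmN (j i : ℕ) : ℕ :=
  Nat.land (Nat.shiftRight (Data.lmTab.getP i) (Nat.mul 12 j)) 4095

/-- The coded path of a row. -/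
noncomputable def codeN (i : ℕ) : ℕ := Nat.shiftRight (Data.lmTab.getP i) 48

/-- Follow a coded path. -/
noncomputable def pfold : ℕ → ℕ → ℕ → ℕ
  | 0, _, j => j
  | n + 1, c, j => cond (Nat.ble c 1) j
      (force (pfold n (Nat.shiftRight c 2) j) fun k => lmN (Nat.land c 3) k)

/-- The code of a path. -/
def pcode : List ℕ → ℕ
  | [] => 1
  | j :: l => 4 * pcode l + j

/-- The product of two rows. -/
noncomputable def mulI (i j : ℕ) : ℕ := force (codeN i) fun c => pfold 16 c j

/-- The image of a row under the exchanging element. -/
noncomputable def sig (i : ℕ) : ℕ := Data.sigTab.getP i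

/-- The square of the exchanging element. -/
def sIdx : ℕ := 1286

/-- The product of two elements. -/
noncomputable def mulX (i j : ℕ) : ℕ :=
  force i fun i => force j fun j => cond (Nat.blt j 2048)
    (cond (Nat.blt i 2048) (mulI i j) (Nat.add 2048 (mulI (Nat.sub i 2048) j)))
    (cond (Nat.blt i 2048)
      (force (sig i) fun k => Nat.add 2048 (mulI k (Nat.sub j 2048)))
      (force (sig (Nat.sub i 2048)) fun k =>
        force (mulI k (Nat.sub j 2048)) fun l => mulI sIdx l))

/-- The table marks an involution conjugate to the central one. -/
noncomputable def tC (i : ℕ) : Bool := Nat.beq (Nat.land (Data.clsTab.getP i) 1) 1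

/-- Two elements commute. -/
noncomputable def com (i j : ℕ) : Bool := Nat.beq (mulX i j) (mulX j i)

/-- An involution. -/
noncomputable def isInv (i : ℕ) : Bool := force i fun i => !Nat.beq i 0 && Nat.beq (mulX i i) 0

/-- The three commuting reference involutions. -/
abbrev iT : ℕ := 894
/-- The first inner class. -/
abbrev iA : ℕ := 1331
/-- The second inner class. -/
abbrev iB : ℕ := 2014

/-- The inner involutions. -/
noncomputable def invI : List ℕ := (List.range 2048).filter isInv

/-- The outer involutions. -/
noncomputable def invO : List ℕ := ((List.range 2048).map fun i => Nat.add 2048 i).filter isInv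

/-- The tables agree with the rows. -/
noncomputable def lmOK (i : ℕ) : Bool :=
  force i fun i => Nat.beq (codeN i) (pcode (row i).2.1) && Nat.blt (row i).2.1.length 16 &&
    (List.range 4).all fun j => Nat.beq (lmN j i) ((row i).2.2.getD j 0)

/-- The table of the automorphism follows the generators. -/
noncomputable def sigOK (i : ℕ) : Bool :=
  force i fun i => Nat.blt (sig i) 2048 && (List.range 4).all fun j =>
    Nat.beq (sig (lmN j i)) (mulI (sig (lmN j 0)) (sig i))

/-- The classes of the inner involutions. -/
noncomputable def clsInOK (e : ℕ × ℕ × List ℕ) : Bool :=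
  tC e.1 == !(Nat.beq e.2.1 1 || Nat.beq e.2.1 3)

/-- The witness of an outer involution. -/
noncomputable def clsOutOK (i : ℕ) : Bool :=
  force (Data.clsTab.getP i) fun v =>
    force (Nat.land (Nat.shiftRight v 1) 15) fun r => force (Nat.shiftRight v 5) fun g =>
      Nat.blt r 8 && Nat.blt g 4096 &&
        Nat.beq (mulX g i) (mulX (Data.outReps.getD r (0, false, [])).1 g) &&
        (tC i == (Data.outReps.getD r (0, false, [])).2.1)

/-- Two commuting conjugates of the centre with the given products. -/
noncomputable def pairOK (z : ℕ) : Bool :=
  tC z || tC (mulX iT z) || invI.all fun a =>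
    !(tC a && tC (mulX a z)) || !com a z || tC (mulX iT a) || tC (mulX (mulX iT a) z)

/-- The third involution for a pair. -/
noncomputable def thirdOK (z a : ℕ) : Bool :=
  Data.uList.any fun u => Nat.blt u 2048 && isInv u && tC u && tC (mulX u z) && tC (mulX u iB) &&
    com u z && com u a

/-- No second outer involution centralising the element of order four. -/
noncomputable def secondOK (z a : ℕ) : Bool :=
  force (mulX iT a) fun p => invO.all fun b =>
    !(tC b && tC (mulX b z)) || !com b z || !com b p

/-- The products with another central element. -/
noncomputable def centreOK (z a : ℕ) : Bool :=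
  invI.all fun k => !(!tC k && tC (mulX iT k) && !Nat.beq k iB) || tC (mulX k z) ||
    !com k iA || !com k z || !com k a || !tC (mulX a k)

/-- The checks on a pair of the main configuration. -/
noncomputable def mainOK (z : ℕ) : Bool :=
  tC z || tC (mulX iT z) || tC (mulX iB z) || !com z iA || invO.all fun a =>
    !(tC a && tC (mulX a z)) || !com a z || (thirdOK z a && secondOK z a && centreOK z a)

/-- The excluded configuration. -/
noncomputable def sameOK (z : ℕ) : Bool :=
  tC z || !tC (mulX iT z) || Nat.beq z iB || tC (mulX iB z) || !com z iA || invO.all fun a =>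
    !(tC a && tC (mulX a z)) || !com a z

/-- The part of the Sylow subgroup centralising an outer involution. -/
noncomputable def centList (a : ℕ) : List ℕ := (List.range 2048).filter fun i => com i a

/-- The parity triple of an outer representative. -/
noncomputable def parOK (e : ℕ × ℕ × ℕ × ℕ) : Bool :=
  [e.2.1, e.2.2.1, e.2.2.2].all (fun x => Nat.blt x 2048 && isInv x && tC x && com x e.1) &&
  (centList e.1).all fun p =>
    com p (mulX (mulX e.2.1 e.2.2.1) e.2.2.2) && com p iB &&
    (centList e.1).all fun q =>
      force (mulX p q) fun pq => force (mulX q p) fun qp =>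
        Nat.beq pq qp || Nat.beq pq (mulX qp iB)

theorem lm_ok : (List.range 2048).all lmOK = true := by decide +kernel

theorem sig_ok : (List.range 2048).all sigOK = true := by decide +kernel

theorem basic_ok : Nat.beq (sig 0) 0 && Nat.beq (sig iT) iA && Nat.beq (sig iA) iT &&
    Nat.beq (mulX iT iA) iB && Nat.beq (sig iB) iB && tC iT && tC iA && !tC iB = true := by
  decide +kernel

theorem clsIn_ok : Data.invs.all clsInOK = true := by decide +kernel

theorem clsNone_ok : ((List.range 4096).all fun i => isInv i || !tC i) = true := by decide +kernel

theorem clsOut_ok : invO.all clsOutOK = true := by decide +kernel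

theorem outReps_ok : (Data.outReps.all fun e => Nat.ble 2048 e.1 && Nat.blt e.1 4096) = true := by
  decide +kernel

theorem pair_ok : invI.all pairOK = true := by decide +kernel

theorem main_ok : invI.all mainOK = true := by decide +kernel

theorem same_ok : invI.all sameOK = true := by decide +kernel

theorem par_ok : Data.parList.all parOK = true := by decide +kernel

/-- The outer conjugates of the centre reduce to the listed representatives. -/
theorem par_cover : (invO.all fun i => !tC i ||
    force (Nat.land (Nat.shiftRight (Data.clsTab.getP i) 1) 15) (fun r =>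
      Data.parList.any fun e => Nat.beq e.1 (Data.outReps.getD r (0, false, [])).1)) = true := by
  decide +kernel

end Cfsg.Lib.HNType.Over
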