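import Cfsg.Agent.Lib.HNType.Sylow
import Cfsg.Agent.Lib.HNType.Over.Table
import Cfsg.Agent.Lib.HNType.Over.Eval

/-!
# The words of the equations in `HN` behind the table
-/

set_option autoImplicit false
set_option maxRecDepth 100000
set_option maxHeartbeats 0
set_option Elab.async false

namespace Cfsg.Lib.HNType.Over

open Cfsg.Lib.HN Cfsg.Lib.HN.Top

/-- The exchanging element. -/
noncomputable def sHN : Spor.HN := val hx Data.sWord

/-- A row read in `HN`. -/
noncomputable def elHN (i : ℕ) : Spor.HN := φP (el i)

theorem elHN_val {i : ℕ} (hi : i < 2048) : elHN i = val hx (rword i) :=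
  φP_val (mem_of_lettersIn (row_basic hi).2.1)

theorem rword_small {i : ℕ} (hi : i < 2048) : (rword i).all (fun g => Nat.blt g 7) = true := by
  refine List.all_eq_true.2 fun g hg => Nat.blt_eq.mpr ?_
  have := mem_of_lettersIn (row_basic hi).2.1 g hg
  simp only [List.mem_cons, List.not_mem_nil, or_false] at this
  omega

/-- The check on the image of a generator. -/
noncomputable def sigEqOK (j : ℕ) : Bool :=
  oneChk ((Data.sWord.map linv).reverse ++ (HNType.Data.gens.getD j [] ++ Data.sWord) ++
    winv (rword (sig (lmN j 0))))

/-- The check on an outer representative. -/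
noncomputable def outEqOK (e : ℕ × Bool × List ℕ) : Bool :=
  oneChk ((Data.sWord ++ rword (e.1 - 2048)) ++
    winv (winv e.2.2 ++ ((cond e.2.1 [0, 0] HNType.Data.repB) ++ e.2.2))) &&
    e.2.2.all (fun g => Nat.blt g 7)

/-- Powers of the products with the representatives of the suborbits that centralise the central
involution. -/
def subOrd : List ℕ := [1, 5, 1, 3, 2, 2, 5, 3, 1]

/-- The product of the central involution with its conjugate by a representative. -/
noncomputable def subWord (j : ℕ) : List ℕ :=
  [0, 0] ++ (sys.ρ.getD j [] ++ ([0, 0] ++ winv (sys.ρ.getD j [])))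

/-- The check on a suborbit: a power of the product fixes the first coset. -/
noncomputable def subEqOK (j : ℕ) : Bool :=
  (List.replicate (subOrd.getD j 0) (subWord j)).flatten.all (fun g => Nat.blt g 7) &&
    evN (List.replicate (subOrd.getD j 0) (subWord j)).flatten 0 0 1 fun j _ _ => Nat.beq j 0

end Cfsg.Lib.HNType.Over
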