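import Cfsg.Agent.Lib.HNType.Over.EqsDef

/-!
# The images of the first two generators
-/

set_option autoImplicit false
set_option maxRecDepth 100000
set_option maxHeartbeats 0
set_option Elab.async false

namespace Cfsg.Lib.HNType.Over

open Cfsg.Lib.HN Cfsg.Lib.HN.Top

theorem sigEq0 : sigEqOK 0 = true := 
  (oneChk_of (by decide +kernel) (by decide +kernel) (by decide +kernel) (by decide +kernel)
    (by decide +kernel))

theorem sigEq1 : sigEqOK 1 = true := 
  (oneChk_of (by decide +kernel) (by decide +kernel) (by decide +kernel) (by decide +kernel)
    (by decide +kernel))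

end Cfsg.Lib.HNType.Over
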