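import Cfsg.Agent.Lib.HNType.Over.Group

/-!
# Moving small 2-groups into the table
-/

set_option autoImplicit false
set_option maxRecDepth 100000

namespace Cfsg.Lib.HNType.Over

open Cfsg.Lib.HN Cfsg.Lib.HN.Top Cfsg.Lib.HN.Sub100 Subgroup

variable {G : Type*} [Group G]

/-- An element mapping generators into a subgroup maps the subgroup they generate into it. -/
theorem conj_mem_closure {X : Set G} {a : G} (h : ∀ x ∈ X, a * x * a⁻¹ ∈ closure X) {x : G}
    (hx : x ∈ closure X) : a * x * a⁻¹ ∈ closure X := by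
  induction hx using closure_induction with
  | mem x hx => exact h x hx
  | one => simp
  | mul x y _ _ h1 h2 =>
    rw [show a * (x * y) * a⁻¹ = (a * x * a⁻¹) * (a * y * a⁻¹) by group]
    exact mul_mem h1 h2
  | inv x _ h1 =>
    rw [show a * x⁻¹ * a⁻¹ = (a * x * a⁻¹)⁻¹ by group]
    exact inv_mem h1

/-- A 2-group extended by an involution normalising it. -/
theorem isPGroup_insert [Finite G] {X : Set G} {a : G} (hX : IsPGroup 2 (closure X)) (ha : a * a = 1)
    (h : ∀ x ∈ X, a * x * a⁻¹ ∈ closure X) : IsPGroup 2 (closure (insert a X)) := by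
  haveI : Fact (Nat.Prime 2) := ⟨Nat.prime_two⟩
  have hz : IsPGroup 2 (zpowers a) := by
    refine IsPGroup.iff_card.2 ?_
    rw [Nat.card_zpowers]
    rcases (Nat.dvd_prime Nat.prime_two).1
      (orderOf_dvd_iff_pow_eq_one.2 (show a ^ 2 = 1 by rw [pow_two, ha])) with e | e
    · exact ⟨0, by rw [e]; norm_num⟩
    · exact ⟨1, by rw [e]; norm_num⟩
  have hn : zpowers a ≤ normalizer (closure X : Set G) := by
    refine zpowers_le.2 (mem_normalizer_iff.2 fun x => ⟨fun hx => conj_mem_closure h hx, fun hx => ?_⟩)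
    have h2 := conj_mem_closure h hx
    rwa [show a * (a * x * a⁻¹) * a⁻¹ = (a * a) * x * (a * a)⁻¹ by group, ha, one_mul, inv_one,
      mul_one] at h2
  have h2 : IsPGroup 2 ↥(closure X ⊔ zpowers a) := IsPGroup.to_sup_of_normal_left' hX hz hn
  rwa [Set.insert_eq, Subgroup.closure_union, sup_comm, ← zpowers_eq_closure]

/-- Commuting involutions generate a 2-group. -/
theorem isPGroup_insert_comm [Finite G] {X : Set G} {a : G} (hX : IsPGroup 2 (closure X))
    (ha : a * a = 1) (h : ∀ x ∈ X, Commute a x) : IsPGroup 2 (closure (insert a X)) :=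
  isPGroup_insert hX ha fun x hx => by
    rw [(h x hx).eq, mul_inv_cancel_right]
    exact subset_closure hx

theorem isPGroup_empty : IsPGroup 2 (closure (∅ : Set G)) := by
  rw [Subgroup.closure_empty]
  exact IsPGroup.of_bot

theorem orderOf_invol {u : G} (hu : u * u = 1) (hu1 : u ≠ 1) : orderOf u = 2 :=
  haveI : Fact (Nat.Prime 2) := ⟨Nat.prime_two⟩
  orderOf_eq_prime (by rw [pow_two, hu]) hu1

variable {t : G} {C : CMap t false} (F : Emb C) [Finite G]

namespace Emb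

theorem E_outer_conj {i : ℕ} (hi : i < 4096) (hi' : 2048 ≤ i) :
    F.E i * t * (F.E i)⁻¹ = C.rg 0 ∧ F.E i * C.rg 0 * (F.E i)⁻¹ = t := by
  obtain ⟨a, rfl⟩ := Nat.exists_eq_add_of_le hi'
  have ha : a < 2048 := by omega
  have hs : ∀ j < 2048, F.E (2048 + 0) * F.E (sig j) * (F.E (2048 + 0))⁻¹ = F.E j := fun j hj => by
    rw [E, E, E, ← map_inv, ← map_mul, ← map_mul, exHN_inner hj, exHN_inner (sig_step hj).1,
      exHN_outer, ← sig_conj hj, elHN, elHN, show el 0 = 1 from el_zero, map_one]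
    congr 1
    group
  have hsplit : F.E (2048 + a) = F.E (2048 + 0) * F.E a := by
    rw [E, E, E, ← map_mul, exHN_outer, exHN_outer, exHN_inner ha, elHN, elHN,
      show el 0 = 1 from el_zero, map_one, mul_one]
  have hc : ∀ j, (∀ i : Fin 2048, Commute (C.e (el j)) (C.e (el i.1))) → j < 2048 →
      F.E a * F.E j * (F.E a)⁻¹ = F.E j := fun j hj hj' => by
    rw [F.E_inner hj', F.E_inner ha, ← (hj ⟨a, ha⟩).eq, mul_inv_cancel_right]
  have hT := hc iT (fun i => by
    show Commute (C.e (el zIdx)) _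
    rw [el_zIdx, C.map_zc]; exact (C.mem _).symm) (by norm_num)
  have hA := hc iA (C.central_of_check (by norm_num)
    (by rw [χ_el (by norm_num), central_A.2]; rfl) central_A.1) (by norm_num)
  obtain ⟨h0, hsT, hsA, -⟩ := basic_facts
  have e1 := hs iA (by norm_num)
  have e2 := hs iT (by norm_num)
  rw [hsA, F.E_T, F.E_A] at e1
  rw [hsT, F.E_T, F.E_A] at e2
  rw [F.E_T] at hT
  rw [F.E_A] at hA
  constructor
  · rw [hsplit, show F.E (2048 + 0) * F.E a * t * (F.E (2048 + 0) * F.E a)⁻¹ =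
      F.E (2048 + 0) * (F.E a * t * (F.E a)⁻¹) * (F.E (2048 + 0))⁻¹ by group, hT, e1]
  · rw [hsplit, show F.E (2048 + 0) * F.E a * C.rg 0 * (F.E (2048 + 0) * F.E a)⁻¹ =
      F.E (2048 + 0) * (F.E a * C.rg 0 * (F.E a)⁻¹) * (F.E (2048 + 0))⁻¹ by group, hA, e2]

include F in
theorem rg_zero_ne : C.rg 0 ≠ t := by
  intro h
  have := F.E_inj (i := iA) (j := iT) (by norm_num) (by norm_num) (by rw [F.E_A, F.E_T]; exact h)
  norm_num at this

/-- An element of the table centralising `t` is inner. -/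
theorem inner_of_commute {i : ℕ} (hi : i < 4096) (h : Commute (F.E i) t) : i < 2048 := by
  by_contra h'
  have := (F.E_outer_conj hi (by omega)).1
  rw [h.eq, mul_inv_cancel_right] at this
  exact F.rg_zero_ne this.symm

theorem A_comm {i : ℕ} (hi : i < 2048) : Commute (C.rg 0) (F.E i) := by
  rw [← F.E_A, F.E_inner (show iA < 2048 by norm_num), F.E_inner hi]
  exact C.central_of_check (by norm_num) (by rw [χ_el (by norm_num), central_A.2]; rfl) central_A.1
    ⟨i, hi⟩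

theorem E_ne_one {i : ℕ} (hi : i < 4096) (h : i ≠ 0) : F.E i ≠ 1 := by
  intro e
  rcases Nat.lt_or_ge i 2048 with h' | h'
  · exact h (F.E_inj h' (by norm_num) (e.trans F.E_zero.symm))
  · have := F.inner_of_commute hi (by rw [e]; exact Commute.one_left _)
    omega

/-- The stabiliser of the pair. -/
def pairN : Subgroup G where
  carrier := {g | (g * t * g⁻¹ = t ∧ g * C.rg 0 * g⁻¹ = C.rg 0) ∨
    (g * t * g⁻¹ = C.rg 0 ∧ g * C.rg 0 * g⁻¹ = t)}
  one_mem' := Or.inl ⟨by group, by group⟩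
  mul_mem' := by
    intro a b ha hb
    have e : ∀ x : G, a * b * x * (a * b)⁻¹ = a * (b * x * b⁻¹) * a⁻¹ := fun x => by group
    simp only [Set.mem_setOf_eq, e] at *
    rcases hb with ⟨b1, b2⟩ | ⟨b1, b2⟩ <;> rw [b1, b2] <;> tauto
  inv_mem' := by
    intro a ha
    have e : ∀ x y : G, a * x * a⁻¹ = y → a⁻¹ * y * a⁻¹⁻¹ = x := fun x y h => by rw [← h]; group
    simp only [Set.mem_setOf_eq] at *
    rcases ha with ⟨a1, a2⟩ | ⟨a1, a2⟩
    · exact Or.inl ⟨e _ _ a1, e _ _ a2⟩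
    · exact Or.inr ⟨e _ _ a2, e _ _ a1⟩

/-- The group of the table. -/
def sylN : Subgroup G where
  carrier := {x | ∃ i < 4096, F.E i = x}
  one_mem' := ⟨0, by norm_num, F.E_zero⟩
  mul_mem' := by
    rintro _ _ ⟨i, hi, rfl⟩ ⟨j, hj, rfl⟩
    exact ⟨_, (F.E_mul hi hj).1, (F.E_mul hi hj).2.symm⟩
  inv_mem' := by
    rintro x hx
    have key : ∀ n : ℕ, ∃ i < 4096, F.E i = x ^ n := fun n => by
      induction n with
      | zero => exact ⟨0, by norm_num, by rw [pow_zero, F.E_zero]⟩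
      | succ n ih =>
        obtain ⟨i, hi, hi'⟩ := ih
        obtain ⟨j, hj, hj'⟩ := hx
        exact ⟨_, (F.E_mul hi hj).1, by rw [pow_succ, ← hi', ← hj', (F.E_mul hi hj).2]⟩
    obtain ⟨i, hi, hi'⟩ := key (orderOf x - 1)
    refine ⟨i, hi, hi'.trans (inv_eq_of_mul_eq_one_right ?_).symm⟩
    rw [← pow_succ', Nat.sub_add_cancel (orderOf_pos x), pow_orderOf_eq_one]

theorem sylN_le : F.sylN ≤ (pairN (C := C)) := by
  rintro _ ⟨i, hi, rfl⟩
  rcases Nat.lt_or_ge i 2048 with h | h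
  · refine Or.inl ⟨?_, ?_⟩
    · rw [F.E_inner h, (C.mem _).eq, mul_inv_cancel_right]
    · rw [← (F.A_comm h).eq, mul_inv_cancel_right]
  · exact Or.inr (F.E_outer_conj hi h)

theorem card_sylN : Nat.card F.sylN = 4096 := by
  rw [← Nat.card_fin 4096]
  refine (Nat.card_congr (Equiv.ofBijective
    (fun i : Fin 4096 => (⟨F.E i.1, i.1, i.2, rfl⟩ : F.sylN)) ⟨fun i j h => ?_, ?_⟩)).symm
  · have h' : F.E i.1 = F.E j.1 := congrArg Subtype.val h
    refine Fin.ext ?_
    rcases Nat.lt_or_ge i.1 2048 with hi | hi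
    · have hj : j.1 < 2048 := F.inner_of_commute j.2 (by rw [← h', F.E_inner hi]; exact C.mem _)
      exact F.E_inj hi hj h'
    · have hj : 2048 ≤ j.1 := by
        by_contra hj
        have := F.inner_of_commute i.2 (by rw [h', F.E_inner (Nat.not_le.1 hj)]; exact C.mem _)
        omega
      obtain ⟨a, ha⟩ := Nat.exists_eq_add_of_le hi
      obtain ⟨b, hb⟩ := Nat.exists_eq_add_of_le hj
      have ha' : a < 2048 := by omega
      have hb' : b < 2048 := by omega
      rw [ha, hb, E, E, exHN_outer, exHN_outer, map_mul, map_mul, mul_right_inj] at h'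
      have := F.E_inj ha' hb' (by rw [E, E, exHN_inner ha', exHN_inner hb']; exact h')
      omega
  · rintro ⟨x, i, hi, rfl⟩
    exact ⟨⟨i, hi⟩, rfl⟩

include F in
/-- A 2-group in the centraliser of `t` has order at most 2048. -/
theorem card_le_of_cent {P : Subgroup G} (hP : IsPGroup 2 P) (hle : P ≤ centralizer ({t} : Set G)) :
    Nat.card P ≤ 2048 := by
  obtain ⟨c, -, hc⟩ := C.exists_conj_le P hP hle
  rw [← C.card_syl]
  refine Nat.card_le_card_of_injective (fun x : P => (⟨c * x * c⁻¹, hc _ x.2⟩ : C.syl)) fun a b h => ?_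
  exact Subtype.ext (by simpa using congrArg Subtype.val h)

include F in
theorem card_le_of_pairN {P : Subgroup G} (hP : IsPGroup 2 P) (hle : P ≤ (pairN (C := C))) :
    Nat.card P ≤ 4096 := by
  have h1 : Nat.card ↥(P ⊓ centralizer ({t} : Set G)) ≤ 2048 :=
    F.card_le_of_cent (hP.to_le inf_le_left) inf_le_right
  have h2 : (P ⊓ centralizer ({t} : Set G)).relIndex P ≤ 2 := by
    classical
    rw [inf_comm, Subgroup.inf_relIndex_right]
    unfold Subgroup.relIndex
    refine le_trans (Nat.card_le_card_of_injective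
      (fun q : P ⧸ (centralizer ({t} : Set G)).subgroupOf P => Quotient.liftOn' q
        (fun p => decide (p.1 * t * p.1⁻¹ = t)) fun a b hab => ?_) ?_) (Nat.card_eq_fintype_card
          (α := Bool)).le
    · rw [QuotientGroup.leftRel_apply, mem_subgroupOf, mem_centralizer_singleton_iff] at hab
      have e : a.1 * t * a.1⁻¹ = b.1 * t * b.1⁻¹ := by
        simp only [Subgroup.coe_mul, Subgroup.coe_inv] at hab
        calc a.1 * t * a.1⁻¹ = a.1 * (t * (a.1⁻¹ * b.1)) * b.1⁻¹ := by group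
          _ = a.1 * ((a.1⁻¹ * b.1) * t) * b.1⁻¹ := by rw [hab]
          _ = b.1 * t * b.1⁻¹ := by group
      simp [e]
    · rintro ⟨a⟩ ⟨b⟩ h
      refine Quotient.sound' ?_
      rw [QuotientGroup.leftRel_apply, mem_subgroupOf, mem_centralizer_singleton_iff]
      have h' : (a.1 * t * a.1⁻¹ = t) ↔ (b.1 * t * b.1⁻¹ = t) := by
        exact decide_eq_decide.1 h
      have e : a.1 * t * a.1⁻¹ = b.1 * t * b.1⁻¹ := by
        rcases hle a.2 with ⟨a1, -⟩ | ⟨a1, -⟩ <;> rcases hle b.2 with ⟨b1, -⟩ | ⟨b1, -⟩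
        · rw [a1, b1]
        · exact absurd ((h'.1 a1).symm.trans b1).symm F.rg_zero_ne
        · exact absurd ((h'.2 b1).symm.trans a1).symm F.rg_zero_ne
        · rw [a1, b1]
      simp only [Subgroup.coe_mul, Subgroup.coe_inv]
      calc a.1⁻¹ * b.1 * t = a.1⁻¹ * (b.1 * t * b.1⁻¹) * b.1 := by group
        _ = a.1⁻¹ * (a.1 * t * a.1⁻¹) * b.1 := by rw [e]
        _ = t * (a.1⁻¹ * b.1) := by group
  have h3 := Subgroup.card_mul_index ((P ⊓ centralizer ({t} : Set G)).subgroupOf P)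
  rw [Nat.card_congr (Subgroup.subgroupOfEquivOfLe inf_le_left).toEquiv] at h3
  rw [← h3, show (4096 : ℕ) = 2048 * 2 by norm_num]
  exact Nat.mul_le_mul h1 h2

/-- A 2-group stabilising the pair is moved into the table, fixing both members. -/
theorem exists_frame (P : Subgroup G) (hP : IsPGroup 2 P) (hle : P ≤ (pairN (C := C))) :
    ∃ n : G, Commute n t ∧ Commute n (C.rg 0) ∧ ∀ x ∈ P, ∃ i < 4096, F.E i = n * x * n⁻¹ := by
  haveI : Fact (Nat.Prime 2) := ⟨Nat.prime_two⟩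
  set N := (pairN (C := C))
  have hS : IsPGroup 2 F.sylN := IsPGroup.of_card (n := 12) (by rw [F.card_sylN]; norm_num)
  obtain ⟨R, hR⟩ := (hS.comap_of_injective N.subtype N.subtype_injective).exists_le_sylow
  have hR' : (R : Subgroup N).map N.subtype = F.sylN := by
    refine (Subgroup.eq_of_le_of_card_ge ?_ ?_).symm
    · intro x hx
      exact ⟨⟨x, F.sylN_le hx⟩, hR (show (⟨x, F.sylN_le hx⟩ : N) ∈ F.sylN.comap N.subtype from hx), rfl⟩
    · rw [F.card_sylN]
      exact F.card_le_of_pairN (R.2.map _) (Subgroup.map_subtype_le _)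
  obtain ⟨Q, hQ⟩ := (hP.comap_of_injective N.subtype N.subtype_injective).exists_le_sylow
  obtain ⟨g, hg⟩ := MulAction.exists_smul_eq N Q R
  have hmem : ∀ x ∈ P, g.1 * x * g.1⁻¹ ∈ F.sylN := fun x hx => by
    have h1 : (MulAut.conj g) ⟨x, hle hx⟩ ∈ ((g • Q : Sylow 2 N) : Subgroup N) :=
      Subgroup.smul_mem_pointwise_smul _ _ _ (hQ (show (⟨x, hle hx⟩ : N) ∈ P.comap N.subtype from hx))
    rw [hg] at h1
    rw [← hR']
    exact ⟨_, h1, rfl⟩
  have hfix : ∀ y : G, (y * t * y⁻¹ = t ∧ y * C.rg 0 * y⁻¹ = C.rg 0) →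
      Commute y t ∧ Commute y (C.rg 0) := fun y h =>
    ⟨show y * t = t * y from mul_inv_eq_iff_eq_mul.1 h.1,
      show y * C.rg 0 = C.rg 0 * y from mul_inv_eq_iff_eq_mul.1 h.2⟩
  rcases g.2 with h | ⟨h1, h2⟩
  · exact ⟨g.1, (hfix _ h).1, (hfix _ h).2, hmem⟩
  · obtain ⟨e1, e2⟩ := F.E_outer_conj (i := 2048) (by norm_num) le_rfl
    set s := F.E 2048
    have h' : s * g.1 * t * (s * g.1)⁻¹ = t ∧ s * g.1 * C.rg 0 * (s * g.1)⁻¹ = C.rg 0 := by
      constructor
      · rw [show s * g.1 * t * (s * g.1)⁻¹ = s * (g.1 * t * g.1⁻¹) * s⁻¹ by group, h1, e2]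
      · rw [show s * g.1 * C.rg 0 * (s * g.1)⁻¹ = s * (g.1 * C.rg 0 * g.1⁻¹) * s⁻¹ by group, h2, e1]
    refine ⟨s * g.1, (hfix _ h').1, (hfix _ h').2, fun x hx => ?_⟩
    have : s * (g.1 * x * g.1⁻¹) * s⁻¹ ∈ F.sylN :=
      mul_mem (mul_mem ⟨2048, by norm_num, rfl⟩ (hmem x hx)) (inv_mem ⟨2048, by norm_num, rfl⟩)
    obtain ⟨i, hi, hi'⟩ := this
    exact ⟨i, hi, hi'.trans (by group)⟩

theorem com_of_commute {i j : ℕ} (hi : i < 4096) (hj : j < 4096) (h : Commute (F.E i) (F.E j)) :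
    com i j = true := by
  simp only [com, Nat.beq_eq]
  have e : F.E (mulX i j) = F.E (mulX j i) := by
    rw [← (F.E_mul hi hj).2, ← (F.E_mul hj hi).2, h.eq]
  have hinj : Function.Injective (fun i : Fin 4096 => (⟨F.E i.1, i.1, i.2, rfl⟩ : F.sylN)) :=
    ((Nat.bijective_iff_surjective_and_card _).2 ⟨fun ⟨x, i, hi, e⟩ => ⟨⟨i, hi⟩, Subtype.ext e⟩, by
      rw [F.card_sylN, Nat.card_fin]⟩).1
  exact congrArg Fin.val (@hinj ⟨_, (F.E_mul hi hj).1⟩ ⟨_, (F.E_mul hj hi).1⟩ (Subtype.ext e))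

theorem isInv_of_sq {i : ℕ} (hi : i < 4096) (h : F.E i * F.E i = 1) (h1 : F.E i ≠ 1) :
    isInv i = true := by
  have hi0 : i ≠ 0 := fun e => h1 (by rw [e, F.E_zero])
  simp only [isInv, Cfsg.Lib.CosetEnum.force_eq, Bool.and_eq_true, Bool.not_eq_true', Nat.beq_eq]
  refine ⟨Bool.eq_false_iff.2 fun h => hi0 (Nat.beq_eq.mp h), ?_⟩
  by_contra hne
  exact F.E_ne_one (F.E_mul hi hi).1 hne ((F.E_mul hi hi).2 ▸ h)

theorem mem_invI {i : ℕ} (hi : i < 2048) (h : F.E i * F.E i = 1) (h1 : F.E i ≠ 1) : i ∈ invI :=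
  List.mem_filter.2 ⟨List.mem_range.2 hi, F.isInv_of_sq (by omega) h h1⟩

theorem mem_invO {i : ℕ} (hi : i < 4096) (hi' : 2048 ≤ i) (h : F.E i * F.E i = 1) (h1 : F.E i ≠ 1) :
    i ∈ invO := by
  refine List.mem_filter.2 ⟨List.mem_map.2 ⟨i - 2048, List.mem_range.2 (by omega), ?_⟩,
    F.isInv_of_sq hi h h1⟩
  show 2048 + (i - 2048) = i
  omega

end Emb

end Cfsg.Lib.HNType.Over
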