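import Cfsg.Agent.Lib.HNType.Fusion
import Cfsg.Agent.Lib.HNType.Over.Eqs

/-!
# The group of order 4096 in a group of `HN` type, and the two sorts of involutions
-/

set_option autoImplicit false
set_option maxRecDepth 100000

namespace Cfsg.Lib.HNType.Over

open Cfsg.Lib.HN Cfsg.Lib.HN.Top Cfsg.Lib.HN.Sub100 Subgroup
open Cfsg.Lib.CosetEnum (force force_eq)

/-! ### The table -/

theorem pcode_pos : ∀ l : List ℕ, 1 ≤ pcode l
  | [] => le_rfl
  | j :: l => by have := pcode_pos l; simp [pcode]; omega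

theorem lm_spec {i : ℕ} (hi : i < 2048) :
    codeN i = pcode (row i).2.1 ∧ (row i).2.1.length < 16 ∧
      ∀ j < 4, lmN j i = (row i).2.2.getD j 0 := by
  have h := List.all_eq_true.1 lm_ok i (List.mem_range.2 hi)
  simp only [lmOK, force_eq, Bool.and_eq_true, Nat.beq_eq, Nat.blt_eq, List.all_eq_true,
    List.mem_range] at h
  exact ⟨h.1.1, h.1.2, h.2⟩

theorem pfold_eq : ∀ (l : List ℕ) (n : ℕ), (∀ j ∈ l, j < 4) → l.length ≤ n → ∀ {i : ℕ}, i < 2048 →
    pfold n (pcode l) i = mulPath l i ∧ mulPath l i < 2048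
  | [], 0, _, _, i, hi => ⟨rfl, hi⟩
  | [], n + 1, _, _, i, hi => ⟨rfl, hi⟩
  | j :: l, 0, _, hn, _, _ => by simp at hn
  | j :: l, n + 1, hl, hn, i, hi => by
    have hj : j < 4 := hl j (by simp)
    have hc := pcode_pos l
    obtain ⟨h1, h2⟩ := pfold_eq l n (fun k hk => hl k (by simp [hk])) (by simpa using hn) hi
    have hd : Nat.shiftRight (pcode (j :: l)) 2 = pcode l := by
      show (4 * pcode l + j) >>> 2 = _
      rw [Nat.shiftRight_eq_div_pow]; omega
    have hm : Nat.land (pcode (j :: l)) 3 = j := by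
      show (4 * pcode l + j) &&& (2 ^ 2 - 1) = _
      rw [Nat.and_two_pow_sub_one_eq_mod]; omega
    have hb : Nat.ble (pcode (j :: l)) 1 = false := by
      rw [Bool.eq_false_iff, Ne, Nat.ble_eq]; simp [pcode]; omega
    rw [pfold, hb, cond_false, force_eq, hd, hm, h1, (lm_spec h2).2.2 j hj]
    refine ⟨by simp [mulPath, force_eq], ?_⟩
    simpa [mulPath, force_eq] using (gen_mul_el h2 hj).1

theorem mulI_spec {i j : ℕ} (hi : i < 2048) (hj : j < 2048) :
    mulI i j < 2048 ∧ el i * el j = el (mulI i j) := by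
  obtain ⟨h1, h2, -⟩ := lm_spec hi
  obtain ⟨h3, h4⟩ := pfold_eq _ 16 (row_basic hi).1 (by omega) hj
  rw [mulI, force_eq, h1, h3]
  exact ⟨h4, (el_mul hi hj).2⟩

theorem sig_step {i : ℕ} (hi : i < 2048) :
    sig i < 2048 ∧ ∀ j < 4, sig (lmN j i) = mulI (sig (lmN j 0)) (sig i) := by
  have h := List.all_eq_true.1 sig_ok i (List.mem_range.2 hi)
  simp only [sigOK, force_eq, Bool.and_eq_true, Nat.beq_eq, Nat.blt_eq, List.all_eq_true,
    List.mem_range] at h
  exact h

theorem basic_facts : sig 0 = 0 ∧ sig iT = iA ∧ sig iA = iT ∧ mulX iT iA = iB ∧ sig iB = iB ∧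
    tC iT = true ∧ tC iA = true ∧ tC iB = false := by
  simpa [Bool.and_eq_true, Nat.beq_eq, and_assoc] using basic_ok

theorem sig_el : ∀ (l : List ℕ), (∀ j ∈ l, j < 4) →
    sHN⁻¹ * φP (pv (pword l)) * sHN = elHN (sig (mulPath l 0))
  | [], _ => by
    rw [mulPath, basic_facts.1, elHN, el_zero, map_one,
      show pv (pword []) = 1 from by simp [pword, pv], map_one]
    group
  | j :: l, hl => by
    have hj : j < 4 := hl j (by simp)
    obtain ⟨hlt, -⟩ := mulPath_spec l (fun k hk => hl k (by simp [hk])) (i := 0) (by norm_num)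
    have ih := sig_el l (fun k hk => hl k (by simp [hk]))
    have h0 : lmN j 0 < 2048 := by
      rw [(lm_spec (by norm_num : 0 < 2048)).2.2 j hj]; exact (gen_mul_el (by norm_num) hj).1
    have hg : φP (pv (Data.gens.getD j [])) = val hx (HNType.Data.gens.getD j []) :=
      φP_val (mem_of_lettersIn (gens_lw j hj))
    have e1 := sHN_conj hj (sig_step h0).1
    rw [← hg] at e1
    rw [pword_cons, pv_append, map_mul]
    calc sHN⁻¹ * (φP (pv (HNType.Data.gens.getD j [])) * φP (pv (pword l))) * sHN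
        = (sHN⁻¹ * φP (pv (HNType.Data.gens.getD j [])) * sHN) *
            (sHN⁻¹ * φP (pv (pword l)) * sHN) := by group
      _ = elHN (mulI (sig (lmN j 0)) (sig (mulPath l 0))) := by
          rw [e1, ih, elHN, elHN, elHN, ← map_mul, (mulI_spec (sig_step h0).1 (sig_step hlt).1).2]
      _ = elHN (sig (mulPath (j :: l) 0)) := by
          rw [← (sig_step hlt).2 j hj, (lm_spec hlt).2.2 j hj]
          simp [mulPath, force_eq]

theorem sig_conj {i : ℕ} (hi : i < 2048) : sHN⁻¹ * elHN i * sHN = elHN (sig i) := by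
  have h := el_mul hi (show 0 < 2048 by norm_num)
  rw [el_zero, mul_one] at h
  have h2 : mulPath (row i).2.1 0 = i := (el_inj hi h.1 h.2).symm
  have := sig_el _ (row_basic hi).1
  rw [h2] at this
  exact this

/-- The element with the given number. -/
noncomputable def exHN (i : ℕ) : Spor.HN := if i < 2048 then elHN i else sHN * elHN (i - 2048)

theorem exHN_inner {i : ℕ} (hi : i < 2048) : exHN i = elHN i := if_pos hi

theorem exHN_outer {i : ℕ} : exHN (2048 + i) = sHN * elHN i := by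
  rw [exHN, if_neg (by omega), Nat.add_sub_cancel_left]

theorem mulX_spec {i j : ℕ} (hi : i < 4096) (hj : j < 4096) :
    mulX i j < 4096 ∧ exHN i * exHN j = exHN (mulX i j) := by
  have hsI : sIdx < 2048 := by decide
  have hmul : ∀ a b, a < 2048 → b < 2048 → mulI a b < 2048 ∧ elHN a * elHN b = elHN (mulI a b) :=
    fun a b ha hb => ⟨(mulI_spec ha hb).1, by rw [elHN, elHN, elHN, ← map_mul, (mulI_spec ha hb).2]⟩
  rw [mulX, force_eq, force_eq]
  rcases Nat.lt_or_ge j 2048 with hj' | hj'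
  · rw [show Nat.blt j 2048 = true from Nat.blt_eq.mpr hj', cond_true]
    rcases Nat.lt_or_ge i 2048 with hi' | hi'
    · rw [show Nat.blt i 2048 = true from Nat.blt_eq.mpr hi', cond_true]
      obtain ⟨h1, h2⟩ := hmul i j hi' hj'
      exact ⟨by omega, by rw [exHN_inner hi', exHN_inner hj', exHN_inner h1, h2]⟩
    · have : Nat.blt i 2048 = false := by rw [Bool.eq_false_iff, Ne, Nat.blt_eq]; omega
      obtain ⟨a, rfl⟩ := Nat.exists_eq_add_of_le hi'
      obtain ⟨h1, h2⟩ := hmul a j (by omega) hj'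
      rw [this, cond_false, show Nat.sub (2048 + a) 2048 = a from Nat.add_sub_cancel_left ..]
      refine ⟨by show 2048 + mulI a j < 4096; omega, ?_⟩
      rw [exHN_outer, exHN_inner hj', show Nat.add 2048 (mulI a j) = 2048 + mulI a j from rfl,
        exHN_outer, ← h2, mul_assoc]
  · have : Nat.blt j 2048 = false := by rw [Bool.eq_false_iff, Ne, Nat.blt_eq]; omega
    obtain ⟨b, rfl⟩ := Nat.exists_eq_add_of_le hj'
    have hb : b < 2048 := by omega
    rw [this, cond_false, show Nat.sub (2048 + b) 2048 = b from Nat.add_sub_cancel_left ..]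
    rcases Nat.lt_or_ge i 2048 with hi' | hi'
    · obtain ⟨h1, h2⟩ := hmul (sig i) b (sig_step hi').1 hb
      rw [show Nat.blt i 2048 = true from Nat.blt_eq.mpr hi', cond_true, force_eq]
      refine ⟨by show 2048 + mulI (sig i) b < 4096; omega, ?_⟩
      rw [exHN_inner hi', exHN_outer, show Nat.add 2048 (mulI (sig i) b) = 2048 + mulI (sig i) b from rfl,
        exHN_outer, ← h2, ← sig_conj hi']
      group
    · have : Nat.blt i 2048 = false := by rw [Bool.eq_false_iff, Ne, Nat.blt_eq]; omega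
      obtain ⟨a, rfl⟩ := Nat.exists_eq_add_of_le hi'
      have ha : a < 2048 := by omega
      obtain ⟨h1, h2⟩ := hmul (sig a) b (sig_step ha).1 hb
      obtain ⟨h3, h4⟩ := hmul sIdx _ hsI h1
      rw [this, cond_false, show Nat.sub (2048 + a) 2048 = a from Nat.add_sub_cancel_left ..,
        force_eq, force_eq]
      refine ⟨by omega, ?_⟩
      rw [exHN_inner h3, exHN_outer, exHN_outer, ← h4, ← h2, ← sHN_sq, ← sig_conj ha]
      group

/-! ### The two sorts of involutions -/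

variable {G : Type*} [Group G] {t : G}

/-- An embedding of `HN` extending the map of the centraliser. -/
structure Emb (C : CMap t false) where
  /-- The embedding. -/
  φ : Spor.HN →* G
  inj : Function.Injective φ
  hext : ∀ a, φ (φP a) = C.e a

variable {C : CMap t false} (F : Emb C)

namespace Emb

/-- The image. -/
def H : Subgroup G := F.φ.range

/-- The element with the given number, in the group. -/
noncomputable def E (i : ℕ) : G := F.φ (exHN i)

theorem E_mem (i : ℕ) : F.E i ∈ F.H := ⟨_, rfl⟩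

theorem E_inner {i : ℕ} (hi : i < 2048) : F.E i = C.e (el i) := by
  rw [E, exHN_inner hi, elHN, F.hext]

theorem E_mul {i j : ℕ} (hi : i < 4096) (hj : j < 4096) :
    mulX i j < 4096 ∧ F.E i * F.E j = F.E (mulX i j) :=
  ⟨(mulX_spec hi hj).1, by rw [E, E, E, ← map_mul, (mulX_spec hi hj).2]⟩

theorem E_zero : F.E 0 = 1 := by rw [F.E_inner (by norm_num), el_zero, C.map_one]

theorem E_inj {i j : ℕ} (hi : i < 2048) (hj : j < 2048) (h : F.E i = F.E j) : i = j := by
  rw [F.E_inner hi, F.E_inner hj] at h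
  exact el_inj hi hj (C.inj h)

theorem centralizer_le : centralizer ({t} : Set G) ≤ F.H := fun g hg => by
  obtain ⟨a, rfl⟩ := C.surj g (mem_centralizer_singleton_iff.1 hg)
  exact ⟨φP a, F.hext a⟩

theorem mem_of_commute {g : G} (h : Commute g t) : g ∈ F.H :=
  F.centralizer_le (mem_centralizer_singleton_iff.2 h.eq)

theorem t_mem : t ∈ F.H := F.mem_of_commute (Commute.refl t)

theorem rg_eq : C.rg 4 = F.E iT ∧ C.rg 0 = F.E iA ∧ C.rg 1 = F.E iB := by
  refine ⟨?_, ?_, ?_⟩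
  · rw [C.rg_four, F.E_inner (by norm_num), show iT = zIdx from rfl, el_zIdx, C.map_zc]
  · rw [C.rg_el.1, F.E_inner (by norm_num)]
  · rw [C.rg_el.2, F.E_inner (by norm_num)]

theorem E_T : F.E iT = t := by rw [← F.rg_eq.1, C.rg_four]

theorem E_A : F.E iA = C.rg 0 := F.rg_eq.2.1.symm

theorem E_B : F.E iB = C.rg 1 := F.rg_eq.2.2.symm

/-- A conjugate of the centre under the image. -/
def InT (u : G) : Prop := ∃ h ∈ F.H, h * t * h⁻¹ = u

/-- A conjugate of the other representative under the image. -/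
def InB (u : G) : Prop := ∃ h ∈ F.H, h * C.rg 1 * h⁻¹ = u

theorem inT_t : F.InT t := ⟨1, one_mem _, by group⟩

theorem InT.conj {u g : G} (h : F.InT u) (hg : g ∈ F.H) : F.InT (g * u * g⁻¹) := by
  obtain ⟨x, hx, rfl⟩ := h
  exact ⟨g * x, mul_mem hg hx, by group⟩

theorem InB.conj {u g : G} (h : F.InB u) (hg : g ∈ F.H) : F.InB (g * u * g⁻¹) := by
  obtain ⟨x, hx, rfl⟩ := h
  exact ⟨g * x, mul_mem hg hx, by group⟩

theorem inT_conj_iff {u g : G} (hg : g ∈ F.H) : F.InT (g * u * g⁻¹) ↔ F.InT u := by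
  refine ⟨fun h => ?_, fun h => InT.conj F h hg⟩
  have := InT.conj F h (inv_mem hg)
  rwa [show g⁻¹ * (g * u * g⁻¹) * g⁻¹⁻¹ = u by group] at this

theorem InT.mem {u : G} (h : F.InT u) : u ∈ F.H := by
  obtain ⟨x, hx, rfl⟩ := h
  exact mul_mem (mul_mem hx F.t_mem) (inv_mem hx)

theorem t_sq (C : CMap t false) : t * t = 1 := by rw [← pow_two, ← C.ord_t, pow_orderOf_eq_one]

theorem InT.sq {u : G} (h : F.InT u) : u * u = 1 := by
  obtain ⟨x, -, rfl⟩ := h
  rw [show x * t * x⁻¹ * (x * t * x⁻¹) = x * (t * t) * x⁻¹ by group, t_sq C]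
  group

theorem InT.ne_one {u : G} (h : F.InT u) : u ≠ 1 := by
  obtain ⟨x, -, rfl⟩ := h
  intro e
  rw [conj_eq_one_iff] at e
  have := C.ord_t
  rw [e, orderOf_one] at this
  norm_num at this

/-- The centraliser of a conjugate of the centre lies in the image. -/
theorem InT.commute_mem {u g : G} (h : F.InT u) (hg : Commute g u) : g ∈ F.H := by
  obtain ⟨x, hx, rfl⟩ := h
  have h1 : Commute (x⁻¹ * g * x) t := by
    have := (Commute.conj_iff x⁻¹).2 hg
    rwa [show x⁻¹ * (x * t * x⁻¹) * x⁻¹⁻¹ = t by group, inv_inv] at this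
  have := F.mem_of_commute h1
  rw [show g = x * (x⁻¹ * g * x) * x⁻¹ by group]
  exact mul_mem (mul_mem hx this) (inv_mem hx)

variable [Finite G]

/-- The second representative is not fused to the centre. -/
theorem InB.not_fused {u g : G} (h : F.InB u) : g * t * g⁻¹ ≠ u := by
  obtain ⟨x, -, rfl⟩ := h
  intro e
  refine C.not_fused_B (g⁻¹ * x) ?_
  rw [show g⁻¹ * x * C.rg 1 * (g⁻¹ * x)⁻¹ = g⁻¹ * (x * C.rg 1 * x⁻¹) * g by group, ← e]
  group

theorem InB.not_inT {u : G} (h : F.InB u) : ¬ F.InT u := fun ⟨_, _, e⟩ => InB.not_fused F h e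

theorem rg_classes : F.InT (C.rg 0) ∧ F.InT (C.rg 2) ∧ F.InB (C.rg 3) := by
  have hs : F.φ sHN ∈ F.H := ⟨_, rfl⟩
  have hsig : ∀ {i : ℕ}, i < 2048 → (F.φ sHN)⁻¹ * F.E i * F.φ sHN = F.E (sig i) := fun {i} hi => by
    rw [E, E, ← map_inv, ← map_mul, ← map_mul, exHN_inner hi, sig_conj hi,
      exHN_inner (sig_step hi).1]
  have hA : F.InT (C.rg 0) := by
    refine ⟨(F.φ sHN)⁻¹, inv_mem hs, ?_⟩
    have h := hsig (i := iT) (by norm_num)
    rw [F.E_T, basic_facts.2.1, F.E_A] at h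
    rw [inv_inv, h]
  obtain ⟨c, hcl, k, hk, hm⟩ : ∃ c < 2048, ∃ k < 2048,
      (sig c = k ∧ (∃ e ∈ Data.invs, e.1 = c ∧ e.2.1 = 2) ∧ (∃ e ∈ Data.invs, e.1 = k ∧ e.2.1 = 0)) :=
    ⟨1478, by norm_num, sig 1478, (sig_step (by norm_num)).1, rfl, by decide +kernel, by decide +kernel⟩
  obtain ⟨d, hdl, l, hl, hm'⟩ : ∃ c < 2048, ∃ k < 2048,
      (sig c = k ∧ (∃ e ∈ Data.invs, e.1 = c ∧ e.2.1 = 3) ∧ (∃ e ∈ Data.invs, e.1 = k ∧ e.2.1 = 1)) :=
    ⟨22, by norm_num, sig 22, (sig_step (by norm_num)).1, rfl, by decide +kernel, by decide +kernel⟩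
  have hent : ∀ e ∈ HNType.Data.invs, e.1 < 2048 ∧
      ∃ w ∈ F.H, w * F.E e.1 * w⁻¹ = C.rg e.2.1 := by
    intro e he
    have hok := List.all_eq_true.1 invs_ok e he
    simp only [invEntryOK, Bool.and_eq_true, Nat.beq_eq, Nat.blt_eq] at hok
    obtain ⟨⟨⟨he1, he2⟩, hew⟩, hkey⟩ := hok
    have hel : el e.1 = (pv e.2.2)⁻¹ * pv (rep e.2.1) * pv e.2.2 := by
      rw [el_of_key he1 (lw_append.2 ⟨lw_append.2 ⟨lw_winv hew, CMap.rep_lw _ he2⟩, hew⟩) hkey.symm,
        pv_append, pv_append, pv, val_winv (wgen_inv relP)]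
    refine ⟨he1, C.e (pv e.2.2), ⟨φP _, F.hext _⟩, ?_⟩
    rw [F.E_inner he1, hel, C.conj_eq (Or.inl rfl), CMap.rg]
    group
  obtain ⟨hsc, ⟨e₁, he₁, rfl, hc2⟩, ⟨e₂, he₂, rfl, hk0⟩⟩ := hm
  obtain ⟨hsd, ⟨e₃, he₃, rfl, hd3⟩, ⟨e₄, he₄, rfl, hl1⟩⟩ := hm'
  obtain ⟨h1, w₁, hw₁, q₁⟩ := hent e₁ he₁
  obtain ⟨h2, w₂, hw₂, q₂⟩ := hent e₂ he₂
  obtain ⟨h3, w₃, hw₃, q₃⟩ := hent e₃ he₃
  obtain ⟨h4, w₄, hw₄, q₄⟩ := hent e₄ he₄
  rw [hc2] at q₁; rw [hk0] at q₂; rw [hd3] at q₃; rw [hl1] at q₄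
  have a1 := hsig h1
  have a3 := hsig h3
  rw [hsc] at a1; rw [hsd] at a3
  refine ⟨hA, ?_, ?_⟩
  · have : C.rg 2 = (w₁ * F.φ sHN * w₂⁻¹) * C.rg 0 * (w₁ * F.φ sHN * w₂⁻¹)⁻¹ := by
      rw [← q₁, ← q₂, ← a1]; group
    rw [this]
    exact InT.conj F hA (mul_mem (mul_mem hw₁ hs) (inv_mem hw₂))
  · refine ⟨w₃ * F.φ sHN * w₄⁻¹, mul_mem (mul_mem hw₃ hs) (inv_mem hw₄), ?_⟩
    rw [← q₃, ← q₄, ← a3]; group

theorem rg_sort {k : ℕ} (hk : k < 5) :
    if k = 1 ∨ k = 3 then F.InB (C.rg k) else F.InT (C.rg k) := by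
  interval_cases k
  · exact F.rg_classes.1
  · exact ⟨1, one_mem _, by group⟩
  · exact F.rg_classes.2.1
  · exact F.rg_classes.2.2
  · simp only [show ¬ (4 = 1 ∨ 4 = 3) by omega, if_false]
    rw [C.rg_four]; exact F.inT_t

theorem inv_centralizer {u : G} (hu : u * u = 1) (hu1 : u ≠ 1) (hut : Commute u t) :
    F.InT u ∨ F.InB u := by
  obtain ⟨c, hct, k, hk, -, hcu⟩ := C.inv_cover hu hu1 hut
  have hc := F.mem_of_commute hct
  have h := F.rg_sort hk
  rw [← hcu] at h
  split_ifs at h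
  · right
    have := InB.conj F h (inv_mem hc)
    rwa [show c⁻¹ * (c * u * c⁻¹) * c⁻¹⁻¹ = u by group] at this
  · exact Or.inl ((F.inT_conj_iff hc).1 h)

/-- An involution of the table. -/
theorem E_isInv {i : ℕ} (hi : i < 4096) (h : isInv i = true) : F.E i * F.E i = 1 := by
  simp only [isInv, force_eq, Bool.and_eq_true, Nat.beq_eq] at h
  rw [(F.E_mul hi hi).2, h.2, F.E_zero]

/-- The classes of the table. -/
theorem E_sort {i : ℕ} (hi : i < 4096) (h : F.E i * F.E i = 1) (hne : i ≠ 0) :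
    (tC i = true ∧ F.InT (F.E i)) ∨ (tC i = false ∧ F.InB (F.E i)) := by
  have hsq : mulX i i = 0 := by
    obtain ⟨h1, h2⟩ := F.E_mul hi hi
    rw [h, ← F.E_zero] at h2
    rcases Nat.lt_or_ge (mulX i i) 2048 with h3 | h3
    · exact (F.E_inj (by norm_num) h3 h2).symm
    · exfalso
      obtain ⟨a, ha⟩ := Nat.exists_eq_add_of_le h3
      have h4 : (1 : Spor.HN) = sHN * elHN a := by
        refine F.inj ?_
        rw [map_one, ← exHN_outer, ← ha, ← F.E_zero, h2]; rfl
      have h5 : sHN⁻¹ * elHN iT * sHN = elHN iT := by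
        rw [show sHN = (elHN a)⁻¹ from eq_inv_of_mul_eq_one_left h4.symm, inv_inv, elHN, elHN,
          show el iT = zc from el_zIdx, ← map_mul, ← map_inv, ← map_mul, (zc_comm _).symm.eq]
        simp
      rw [sig_conj (by norm_num), basic_facts.2.1] at h5
      have := el_inj (by norm_num) (by norm_num) (φP_injective h5)
      norm_num at this
  rcases Nat.lt_or_ge i 2048 with hi' | hi'
  · have hcv := List.all_eq_true.1 cover_ok i (List.mem_range.2 hi')
    simp only [Bool.and_eq_true] at hcv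
    have hsqI : sqIdx false i = 0 := by
      refine el_inj (sqIdx_spec false hi').1 (by norm_num) (C.inj ?_)
      rw [(sqIdx_spec false hi').2, ← C.map_mul, ← F.E_inner hi', h, el_zero, C.map_one]
    simp only [invCoverOK, force_eq, hsqI, Bool.or_eq_true, Bool.not_eq_true', Nat.beq_eq,
      List.any_eq_true] at hcv
    obtain ⟨e, he, rfl⟩ : ∃ e ∈ HNType.Data.invs, e.1 = i := by
      rcases hcv.2 with (h1 | h1) | h1
      · simp at h1
      · exact absurd h1 hne
      · exact h1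
    have hcls := List.all_eq_true.1 clsIn_ok e he
    simp only [clsInOK, beq_iff_eq] at hcls
    have hok := List.all_eq_true.1 invs_ok e he
    simp only [invEntryOK, Bool.and_eq_true, Nat.beq_eq, Nat.blt_eq] at hok
    obtain ⟨⟨⟨he1, he2⟩, hew⟩, hkey⟩ := hok
    have hel : el e.1 = (pv e.2.2)⁻¹ * pv (rep e.2.1) * pv e.2.2 := by
      rw [el_of_key he1 (lw_append.2 ⟨lw_append.2 ⟨lw_winv hew, CMap.rep_lw _ he2⟩, hew⟩) hkey.symm,
        pv_append, pv_append, pv, val_winv (wgen_inv relP)]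
    have hw : C.e (pv e.2.2) ∈ F.H := ⟨φP _, F.hext _⟩
    have hc : C.e (pv e.2.2) * F.E e.1 * (C.e (pv e.2.2))⁻¹ = C.rg e.2.1 := by
      rw [F.E_inner he1, hel, C.conj_eq (Or.inl rfl), CMap.rg]; group
    have hs := F.rg_sort he2
    rw [← hc] at hs
    split_ifs at hs with hk
    · right
      refine ⟨?_, ?_⟩
      · rcases hk with hk | hk <;> simp [hcls, hk]
      · have := InB.conj F hs (inv_mem hw)
        rwa [show (C.e (pv e.2.2))⁻¹ * (C.e (pv e.2.2) * F.E e.1 * (C.e (pv e.2.2))⁻¹) *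
          (C.e (pv e.2.2))⁻¹⁻¹ = F.E e.1 by group] at this
    · left
      simp only [not_or] at hk
      refine ⟨?_, (F.inT_conj_iff hw).1 hs⟩
      rw [hcls]
      simp only [Bool.not_eq_true', Bool.or_eq_false_iff]
      exact ⟨Bool.eq_false_iff.2 fun h => hk.1 (Nat.beq_eq.mp h),
        Bool.eq_false_iff.2 fun h => hk.2 (Nat.beq_eq.mp h)⟩
  · have hm : i ∈ invO := by
      obtain ⟨a, rfl⟩ := Nat.exists_eq_add_of_le hi'
      refine List.mem_filter.2 ⟨List.mem_map.2 ⟨a, List.mem_range.2 (by omega), rfl⟩, ?_⟩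
      simp [isInv, force_eq, hsq]
      exact Bool.eq_false_iff.2 fun h => hne (Nat.beq_eq.mp h)
    have hcv := List.all_eq_true.1 clsOut_ok i hm
    simp only [clsOutOK, force_eq, Bool.and_eq_true, Nat.blt_eq, Nat.beq_eq, beq_iff_eq] at hcv
    obtain ⟨⟨⟨hr, hg⟩, heq⟩, hcl⟩ := hcv
    set r := Nat.land (Nat.shiftRight (Data.clsTab.getP i) 1) 15
    set g := Nat.shiftRight (Data.clsTab.getP i) 5
    set e := Data.outReps.getD r (0, false, [])
    have hlen : Data.outReps.length = 8 := by decide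
    have he : e ∈ Data.outReps := by
      rw [show e = Data.outReps[r]'(hlen ▸ hr) from List.getD_eq_getElem _ _ _]
      exact List.getElem_mem _
    have hb := List.all_eq_true.1 outReps_ok e he
    simp only [Bool.and_eq_true, Nat.ble_eq, Nat.blt_eq] at hb
    obtain ⟨w, hw⟩ := out_conj he hb.2 hb.1
    have hi1 : F.E i = (F.E g)⁻¹ * F.E e.1 * F.E g := by
      rw [mul_assoc, (F.E_mul hb.2 hg).2, ← heq, ← (F.E_mul hg hi).2]; group
    have he1 : F.E e.1 = (F.φ w)⁻¹ * (cond e.2.1 t (C.rg 1)) * F.φ w := by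
      rw [E, exHN, if_neg (by omega), hw, map_mul, map_mul, map_inv, F.hext]
      cases e.2.1
      · rfl
      · simp [C.map_zc]
    have hmem : ((F.E g)⁻¹ * (F.φ w)⁻¹) ∈ F.H := mul_mem (inv_mem (F.E_mem g)) (inv_mem ⟨w, rfl⟩)
    rw [hi1, he1, hcl,
      show (F.E g)⁻¹ * ((F.φ w)⁻¹ * cond e.2.1 t (C.rg 1) * F.φ w) * F.E g =
        ((F.E g)⁻¹ * (F.φ w)⁻¹) * cond e.2.1 t (C.rg 1) * ((F.E g)⁻¹ * (F.φ w)⁻¹)⁻¹ by group]
    cases e.2.1
    · exact Or.inr ⟨rfl, InB.conj F ⟨1, one_mem _, by simp⟩ hmem⟩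
    · exact Or.inl ⟨rfl, InT.conj F F.inT_t hmem⟩

/-- The table decides which elements are conjugate to the central involution. -/
theorem tC_iff {i : ℕ} (hi : i < 4096) (h : F.E i * F.E i = 1) :
    tC i = true ↔ F.InT (F.E i) := by
  rcases eq_or_ne i 0 with rfl | hne
  · have h0 : tC 0 = false := by decide +kernel
    rw [h0, F.E_zero]
    exact ⟨fun h => Bool.noConfusion h, fun h => absurd rfl (InT.ne_one F h)⟩
  rcases F.E_sort hi h hne with ⟨e, hT⟩ | ⟨e, hB⟩
  · exact ⟨fun _ => hT, fun _ => e⟩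
  · exact ⟨fun h' => absurd h' (by rw [e]; simp), fun h' => absurd h' (InB.not_inT F hB)⟩

end Emb

end Cfsg.Lib.HNType.Over
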