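import Cfsg.Agent.Lib.HNType.Over.Sort

/-!
# The centraliser of an involution of the second sort lies in the image
-/

set_option autoImplicit false
set_option maxRecDepth 100000

namespace Cfsg.Lib.HNType.Over

open Cfsg.Lib.HN Cfsg.Lib.HN.Top Cfsg.Lib.HN.Sub100 Subgroup
open Cfsg.Lib.CosetEnum (force_eq)

variable {G : Type*} [Group G] {t : G} {C : CMap t false} (F : Emb C) [Finite G]

namespace Emb

theorem tC_conj {i : ℕ} (hi : i < 4096) {n x : G} (hn : n ∈ F.H) (he : F.E i = n * x * n⁻¹)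
    (hx : x * x = 1) : tC i = true ↔ F.InT x := by
  have hsq : F.E i * F.E i = 1 := by
    rw [he, show n * x * n⁻¹ * (n * x * n⁻¹) = n * (x * x) * n⁻¹ by group, hx]; group
  rw [F.tC_iff hi hsq, he, F.inT_conj_iff hn]

theorem mul_conj {i j : ℕ} (hi : i < 4096) (hj : j < 4096) {n x y : G} (ex : F.E i = n * x * n⁻¹)
    (ey : F.E j = n * y * n⁻¹) : mulX i j < 4096 ∧ F.E (mulX i j) = n * (x * y) * n⁻¹ :=
  ⟨(F.E_mul hi hj).1, by rw [← (F.E_mul hi hj).2, ex, ey]; group⟩

theorem com_conj {i j : ℕ} (hi : i < 4096) (hj : j < 4096) {n x y : G} (ex : F.E i = n * x * n⁻¹)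
    (ey : F.E j = n * y * n⁻¹) (h : Commute x y) : com i j = true :=
  F.com_of_commute hi hj (by rw [ex, ey]; exact (Commute.conj_iff n).2 h)

theorem sq_mul {x y : G} (hx : x * x = 1) (hy : y * y = 1) (h : Commute x y) :
    x * y * (x * y) = 1 := by
  rw [mul_assoc, ← mul_assoc y, ← h.eq, mul_assoc x y y, hy, mul_one, hx]

theorem table_invI {i : ℕ} (hi : i < 4096) {n x : G} (hnt : Commute n t) (he : F.E i = n * x * n⁻¹)
    (hx : x * x = 1) (hx1 : x ≠ 1) (hxt : Commute x t) : i < 2048 ∧ i ∈ invI := by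
  have hc : Commute (F.E i) t := by
    rw [he]
    have := (Commute.conj_iff n).2 hxt
    rwa [hnt.eq, mul_inv_cancel_right] at this
  have h := F.inner_of_commute hi hc
  refine ⟨h, F.mem_invI h ?_ fun e => hx1 (conj_eq_one_iff.1 (he.symm.trans e))⟩
  rw [he, show n * x * n⁻¹ * (n * x * n⁻¹) = n * (x * x) * n⁻¹ by group, hx]; group

theorem table_invO {i : ℕ} (hi : i < 4096) {n x : G} (hnt : Commute n t) (he : F.E i = n * x * n⁻¹)
    (hx : x * x = 1) (hxt : ¬ Commute x t) : i ∈ invO := by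
  have hx1 : x ≠ 1 := fun e => hxt (e ▸ Commute.one_left t)
  refine F.mem_invO hi ?_ ?_ fun e => hx1 (conj_eq_one_iff.1 (he.symm.trans e))
  · by_contra h
    refine hxt ((Commute.conj_iff n).1 ?_)
    rw [hnt.eq, mul_inv_cancel_right, ← he, F.E_inner (Nat.not_le.1 h)]
    exact C.mem _
  · rw [he, show n * x * n⁻¹ * (n * x * n⁻¹) = n * (x * x) * n⁻¹ by group, hx]; group

/-- Two commuting conjugates of the centre over an involution of the second sort. -/
theorem pair_case {z a : G} (hz : z * z = 1) (hz1 : z ≠ 1) (hzt : Commute z t) (hzT : ¬ F.InT z)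
    (htz : ¬ F.InT (t * z)) (ha : F.InT a) (hat : Commute a t) (haz : Commute a z)
    (hazT : F.InT (a * z)) : F.InT (t * a) ∨ F.InT (t * a * z) := by
  have ha2 := InT.sq F ha
  have hP : IsPGroup 2 (closure (insert a (insert z (insert t (∅ : Set G))))) :=
    isPGroup_insert_comm (isPGroup_insert_comm (isPGroup_insert_comm isPGroup_empty (t_sq C) (by simp))
      hz (by rintro x (rfl | h) <;> [exact hzt; exact h.elim])) ha2
      (by rintro x (rfl | rfl | h) <;> [exact haz; exact hat; exact h.elim])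
  obtain ⟨c, hct, hc⟩ := C.exists_conj_le _ hP (by
    rw [closure_le]
    rintro x (rfl | rfl | rfl | h)
    · exact mem_centralizer_singleton_iff.2 hat.eq
    · exact mem_centralizer_singleton_iff.2 hzt.eq
    · exact mem_centralizer_singleton_iff.2 rfl
    · exact h.elim)
  have hcH := F.mem_of_commute hct
  have key : ∀ x ∈ insert a (insert z (insert t (∅ : Set G))), ∃ i < 4096, F.E i = c * x * c⁻¹ := by
    intro x hx
    obtain ⟨i, hi⟩ := (CMap.mem_syl (C := C)).1 (hc x (subset_closure hx))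
    exact ⟨i.1, by omega, by rw [F.E_inner i.2]; exact hi⟩
  obtain ⟨iz, hiz, ez⟩ := key z (by simp)
  obtain ⟨ia, hia, ea⟩ := key a (by simp)
  have et : F.E iT = c * t * c⁻¹ := by rw [F.E_T, hct.eq, mul_inv_cancel_right]
  obtain ⟨-, hzm⟩ := F.table_invI hiz hct ez hz hz1 hzt
  obtain ⟨-, ham⟩ := F.table_invI hia hct ea ha2 (InT.ne_one F ha) hat
  obtain ⟨htzl, etz⟩ := F.mul_conj (show iT < 4096 by norm_num) hiz et ez
  obtain ⟨hazl, eaz⟩ := F.mul_conj hia hiz ea ez
  obtain ⟨htal, eta⟩ := F.mul_conj (show iT < 4096 by norm_num) hia et ea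
  obtain ⟨htazl, etaz⟩ := F.mul_conj htal hiz eta ez
  have hta2 := sq_mul (t_sq C) ha2 hat.symm
  have h := List.all_eq_true.1 pair_ok iz hzm
  simp only [pairOK, Bool.or_eq_true, List.all_eq_true] at h
  rcases h with (h | h) | h
  · exact absurd ((F.tC_conj hiz hcH ez hz).1 h) hzT
  · exact absurd ((F.tC_conj htzl hcH etz (sq_mul (t_sq C) hz hzt.symm)).1 h) htz
  · have h' := h ia ham
    rw [(F.tC_conj hia hcH ea ha2).2 ha, (F.tC_conj hazl hcH eaz (sq_mul ha2 hz haz)).2 hazT,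
      F.com_conj hia hiz ea ez haz] at h'
    simp only [Bool.and_self, Bool.not_true, Bool.false_eq_true, false_or] at h'
    rcases h' with h' | h'
    · exact Or.inl ((F.tC_conj htal hcH eta hta2).1 h')
    · exact Or.inr ((F.tC_conj htazl hcH etaz (sq_mul hta2 hz (hzt.symm.mul_left haz))).1 h')

/-- A 2-group around an element of order four inverted by `t` moves into the table. -/
theorem main_frame {a : G} (ha : F.InT a) (h4 : (t * a) ^ 4 = 1) (hk1 : (t * a) ^ 2 ≠ 1)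
    (hk : ¬ F.InT ((t * a) ^ 2)) (P : Subgroup G) (hP : IsPGroup 2 P)
    (hfix : ∀ x ∈ P, (x * t * x⁻¹ = t ∧ x * (a * t * a) * x⁻¹ = a * t * a) ∨
      (x * t * x⁻¹ = a * t * a ∧ x * (a * t * a) * x⁻¹ = t)) :
    ∃ n : G, Commute n t ∧ F.E iT = n * t * n⁻¹ ∧ F.E iA = n * (a * t * a) * n⁻¹ ∧
      F.E iB = n * (t * a) ^ 2 * n⁻¹ ∧ ∀ x ∈ P, ∃ i < 4096, F.E i = n * x * n⁻¹ := by
  obtain ⟨c, hct, hcA, -⟩ := F.four_frame (InT.mem F ha) (InT.sq F ha) h4 hk1 hk
  have hle : P.map (MulAut.conj c).toMonoidHom ≤ pairN (C := C) := by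
    rintro _ ⟨x, hx, rfl⟩
    have hc : c * t * c⁻¹ = t := by rw [hct.eq, mul_inv_cancel_right]
    have e : ∀ w : G, c * x * c⁻¹ * (c * w * c⁻¹) * (c * x * c⁻¹)⁻¹ = c * (x * w * x⁻¹) * c⁻¹ :=
      fun w => by group
    rcases hfix x hx with ⟨h1, h2⟩ | ⟨h1, h2⟩
    · left
      have := e t; rw [hc, h1, hc] at this
      refine ⟨this, ?_⟩
      have := e (a * t * a); rwa [hcA, h2, hcA] at this
    · right
      have := e t; rw [hc, h1, hcA] at this
      refine ⟨this, ?_⟩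
      have := e (a * t * a); rwa [hcA, h2, hc] at this
  obtain ⟨n, hnt, hnA, hn⟩ := F.exists_frame _ (hP.map _) hle
  have hmt : Commute (n * c) t := hnt.mul_left hct
  have eT : F.E iT = n * c * t * (n * c)⁻¹ := by rw [F.E_T, hmt.eq, mul_inv_cancel_right]
  have eA : F.E iA = n * c * (a * t * a) * (n * c)⁻¹ := by
    rw [F.E_A, show n * c * (a * t * a) * (n * c)⁻¹ = n * (c * (a * t * a) * c⁻¹) * n⁻¹ by group, hcA,
      hnA.eq, mul_inv_cancel_right]
  refine ⟨n * c, hmt, eT, eA, ?_, fun x hx => ?_⟩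
  · obtain ⟨-, e⟩ := F.mul_conj (show iT < 4096 by norm_num) (show iA < 4096 by norm_num) eT eA
    rw [basic_facts.2.2.2.1] at e
    rw [e, pow_two]; group
  · obtain ⟨i, hi, e⟩ := hn _ ⟨x, hx, rfl⟩
    exact ⟨i, hi, e.trans (by show n * (c * x * c⁻¹) * n⁻¹ = _; group)⟩

include F in
theorem four_facts {a : G} (ha : a * a = 1) (h4 : (t * a) ^ 4 = 1) :
    Commute t (a * t * a) ∧ a * t * a * (a * t * a) = 1 ∧ (t * a) ^ 2 * (t * a) ^ 2 = 1 ∧
      t * (t * a) ^ 2 = a * t * a ∧ Commute ((t * a) ^ 2) t ∧ Commute ((t * a) ^ 2) a := by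
  have hk : (t * a) ^ 2 = t * (a * t * a) := by rw [pow_two]; group
  have hb : a * t * a * (a * t * a) = 1 := by
    rw [show a * t * a * (a * t * a) = a * (t * (a * a) * t) * a by group, ha, mul_one, t_sq C, mul_one, ha]
  have hk2 : (t * a) ^ 2 * (t * a) ^ 2 = 1 := by rw [← pow_add]; exact h4
  have hc : Commute t (a * t * a) := by
    set b := a * t * a
    rw [hk] at hk2
    show t * b = b * t
    calc t * b = (t * b)⁻¹ := eq_inv_of_mul_eq_one_left hk2
      _ = b * t := by rw [mul_inv_rev, inv_eq_of_mul_eq_one_right (t_sq C), inv_eq_of_mul_eq_one_right hb]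
  refine ⟨hc, hb, hk2, by rw [hk, ← mul_assoc, t_sq C, one_mul], ?_, ?_⟩
  · rw [hk]; exact (Commute.refl t).mul_left hc.symm
  · rw [hk]
    show t * (a * t * a) * a = a * (t * (a * t * a))
    calc t * (a * t * a) * a = t * (a * t) * (a * a) := by group
      _ = t * (a * t) := by rw [ha, mul_one]
      _ = (t * (a * t * a)) * a := by rw [mul_assoc t, mul_assoc (a * t) a a, ha, mul_one]
      _ = a * t * a * t * a := by rw [hc.eq]
      _ = a * (t * (a * t * a)) := by group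

include F in
theorem base_group {z a : G} (hz : z * z = 1) (hzt : Commute z t) (ha : a * a = 1) (haz : Commute a z)
    (h4 : (t * a) ^ 4 = 1) :
    IsPGroup 2 (closure (insert a (insert z (insert (a * t * a) (insert t (∅ : Set G)))))) := by
  have hai : a⁻¹ = a := inv_eq_of_mul_eq_one_right ha
  obtain ⟨hc, hb, -⟩ := F.four_facts ha h4
  have hzb : Commute z (a * t * a) := (haz.symm.mul_right hzt).mul_right haz.symm
  refine isPGroup_insert (isPGroup_insert_comm (isPGroup_insert_comm (isPGroup_insert_comm isPGroup_empty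
    (t_sq C) (by simp)) hb (by rintro x (rfl | h) <;> [exact hc.symm; exact h.elim])) hz
    (by rintro x (rfl | rfl | h) <;> [exact hzb; exact hzt; exact h.elim])) ha ?_
  rintro x (rfl | rfl | rfl | h)
  · rw [haz.eq, mul_inv_cancel_right]; exact subset_closure (by simp)
  · rw [show a * (a * t * a) * a⁻¹ = (a * a) * t by group, ha, one_mul]
    exact subset_closure (by simp)
  · rw [hai]; exact subset_closure (by simp)
  · exact h.elim

theorem fix_of_gens {b : G} {X : Set G}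
    (h : ∀ x ∈ X, (x * t * x⁻¹ = t ∧ x * b * x⁻¹ = b) ∨ (x * t * x⁻¹ = b ∧ x * b * x⁻¹ = t)) :
    ∀ x ∈ closure X, (x * t * x⁻¹ = t ∧ x * b * x⁻¹ = b) ∨ (x * t * x⁻¹ = b ∧ x * b * x⁻¹ = t) := by
  intro x hx
  induction hx using closure_induction with
  | mem x hx => exact h x hx
  | one => exact Or.inl ⟨by group, by group⟩
  | mul p q _ _ hp hq =>
    have e : ∀ w : G, p * q * w * (p * q)⁻¹ = p * (q * w * q⁻¹) * p⁻¹ := fun w => by group
    rcases hq with ⟨q1, q2⟩ | ⟨q1, q2⟩ <;> rw [e, e, q1, q2]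
    · exact hp
    · rcases hp with ⟨p1, p2⟩ | ⟨p1, p2⟩
      · exact Or.inr ⟨p2, p1⟩
      · exact Or.inl ⟨p2, p1⟩
  | inv p _ hp =>
    have e : ∀ x y : G, p * x * p⁻¹ = y → p⁻¹ * y * p⁻¹⁻¹ = x := fun x y h => by rw [← h]; group
    rcases hp with ⟨p1, p2⟩ | ⟨p1, p2⟩
    · exact Or.inl ⟨e _ _ p1, e _ _ p2⟩
    · exact Or.inr ⟨e _ _ p2, e _ _ p1⟩

theorem fix_of_commute {x b : G} (h1 : Commute x t) (h2 : Commute x b) :
    (x * t * x⁻¹ = t ∧ x * b * x⁻¹ = b) ∨ (x * t * x⁻¹ = b ∧ x * b * x⁻¹ = t) :=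
  Or.inl ⟨by rw [h1.eq, mul_inv_cancel_right], by rw [h2.eq, mul_inv_cancel_right]⟩

theorem fix_swap {a : G} (ha : a * a = 1) :
    (a * t * a⁻¹ = t ∧ a * (a * t * a) * a⁻¹ = a * t * a) ∨
      (a * t * a⁻¹ = a * t * a ∧ a * (a * t * a) * a⁻¹ = t) :=
  Or.inr ⟨by rw [inv_eq_of_mul_eq_one_right ha],
    by rw [show a * (a * t * a) * a⁻¹ = (a * a) * t by group, ha, one_mul]⟩

include F in
theorem base_fix {z a : G} (hzt : Commute z t) (ha : a * a = 1) (haz : Commute a z)
    (h4 : (t * a) ^ 4 = 1) : ∀ x ∈ insert a (insert z (insert (a * t * a) (insert t (∅ : Set G)))),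
      (x * t * x⁻¹ = t ∧ x * (a * t * a) * x⁻¹ = a * t * a) ∨
        (x * t * x⁻¹ = a * t * a ∧ x * (a * t * a) * x⁻¹ = t) := by
  obtain ⟨hc, -⟩ := F.four_facts ha h4
  rintro x (rfl | rfl | rfl | rfl | h)
  · exact fix_swap ha
  · exact fix_of_commute hzt ((haz.symm.mul_right hzt).mul_right haz.symm)
  · exact fix_of_commute hc.symm (Commute.refl _)
  · exact fix_of_commute (Commute.refl _) hc
  · exact h.elim

/-- The facts in the table about a pair `z`, `a` of the main configuration. -/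
theorem main_checks {z a n : G} {iz ia : ℕ} (hz : z * z = 1) (hz1 : z ≠ 1) (hzt : Commute z t)
    (hzT : ¬ F.InT z) (htz : ¬ F.InT (t * z)) (ha : F.InT a) (haz : Commute a z)
    (hazT : F.InT (a * z)) (hat : ¬ Commute a t) (h4 : (t * a) ^ 4 = 1)
    (hkz : ¬ F.InT ((t * a) ^ 2 * z))
    (hnt : Commute n t) (eT : F.E iT = n * t * n⁻¹) (eA : F.E iA = n * (a * t * a) * n⁻¹)
    (eB : F.E iB = n * (t * a) ^ 2 * n⁻¹) (hiz : iz < 4096) (ez : F.E iz = n * z * n⁻¹)
    (hia : ia < 4096) (ea : F.E ia = n * a * n⁻¹) :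
    thirdOK iz ia = true ∧ secondOK iz ia = true ∧ centreOK iz ia = true := by
  have hnH := F.mem_of_commute hnt
  have ha2 := InT.sq F ha
  obtain ⟨-, -, hk2, -, hkt, hka⟩ := F.four_facts ha2 h4
  have hzk : Commute ((t * a) ^ 2) z := (hzt.symm.mul_left haz).pow_left 2
  obtain ⟨-, hzm⟩ := F.table_invI hiz hnt ez hz hz1 hzt
  have ham := F.table_invO hia hnt ea ha2 hat
  obtain ⟨htzl, etz⟩ := F.mul_conj (show iT < 4096 by norm_num) hiz eT ez
  obtain ⟨hbzl, ebz⟩ := F.mul_conj (show iB < 4096 by norm_num) hiz eB ez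
  obtain ⟨hazl, eaz⟩ := F.mul_conj hia hiz ea ez
  have h := List.all_eq_true.1 main_ok iz hzm
  rw [mainOK] at h
  simp only [Bool.or_eq_true, List.all_eq_true] at h
  rcases h with (((h | h) | h) | h) | h
  · exact absurd ((F.tC_conj hiz hnH ez hz).1 h) hzT
  · exact absurd ((F.tC_conj htzl hnH etz (sq_mul (t_sq C) hz hzt.symm)).1 h) htz
  · exact absurd ((F.tC_conj hbzl hnH ebz (sq_mul hk2 hz hzk)).1 h) hkz
  · rw [F.com_conj hiz (show iA < 4096 by norm_num) ez eA ((haz.symm.mul_right hzt).mul_right haz.symm)] at h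
    simp at h
  · have h' := h ia ham
    rw [(F.tC_conj hia hnH ea ha2).2 ha, (F.tC_conj hazl hnH eaz (sq_mul ha2 hz haz)).2 hazT,
      F.com_conj hia hiz ea ez haz] at h'
    simp only [Bool.and_self, Bool.not_true, Bool.false_eq_true, false_or, Bool.and_eq_true] at h'
    exact ⟨h'.1.1, h'.1.2, h'.2⟩

include F in
theorem not_commute_of_four {a : G} (ha : a * a = 1) (h : (t * a) ^ 2 ≠ 1) : ¬ Commute a t :=
  fun hc => h (by rw [pow_two]; exact sq_mul (t_sq C) ha hc.symm)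

theorem exists_third {z a : G} (hz : z * z = 1) (hz1 : z ≠ 1) (hzt : Commute z t) (hzT : ¬ F.InT z)
    (htz : ¬ F.InT (t * z)) (ha : F.InT a) (haz : Commute a z) (hazT : F.InT (a * z))
    (h4 : (t * a) ^ 4 = 1) (hk1 : (t * a) ^ 2 ≠ 1) (hk : ¬ F.InT ((t * a) ^ 2))
    (hkz : ¬ F.InT ((t * a) ^ 2 * z)) :
    ∃ u : G, F.InT u ∧ Commute u t ∧ Commute u a ∧ Commute u z ∧ F.InT (u * z) ∧
      F.InT (u * (t * a) ^ 2) := by
  have ha2 := InT.sq F ha
  have hat := F.not_commute_of_four ha2 hk1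
  obtain ⟨n, hnt, eT, eA, eB, hn⟩ := F.main_frame ha h4 hk1 hk _ (F.base_group hz hzt ha2 haz h4)
    (fix_of_gens (F.base_fix hzt ha2 haz h4))
  obtain ⟨iz, hiz, ez⟩ := hn z (subset_closure (by simp))
  obtain ⟨ia, hia, ea⟩ := hn a (subset_closure (by simp))
  obtain ⟨h3, -, -⟩ := F.main_checks hz hz1 hzt hzT htz ha haz hazT hat h4 hkz hnt eT eA eB hiz ez hia ea
  have hnH := F.mem_of_commute hnt
  simp only [thirdOK, List.any_eq_true, Bool.and_eq_true, Nat.blt_eq] at h3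
  obtain ⟨iu, -, ⟨⟨⟨⟨⟨hiu, hui⟩, huT⟩, huzT⟩, hubT⟩, huz⟩, hua⟩ := h3
  have hiu' : iu < 4096 := by omega
  set u := n⁻¹ * F.E iu * n
  have eu : F.E iu = n * u * n⁻¹ := by simp only [u]; group
  have hu2 : u * u = 1 := by
    simp only [u]
    rw [show n⁻¹ * F.E iu * n * (n⁻¹ * F.E iu * n) = n⁻¹ * (F.E iu * F.E iu) * n by group,
      F.E_isInv hiu' hui]
    group
  have hut : Commute u t := by
    refine (Commute.conj_iff n).1 ?_
    rw [← eu, hnt.eq, mul_inv_cancel_right, F.E_inner hiu]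
    exact C.mem _
  have hcom : ∀ {j : ℕ} {y : G}, j < 4096 → F.E j = n * y * n⁻¹ → com iu j = true → Commute u y := by
    intro j y hj ey h
    refine (Commute.conj_iff n).1 ?_
    rw [← eu, ← ey]
    show F.E iu * F.E j = F.E j * F.E iu
    rw [(F.E_mul hiu' hj).2, (F.E_mul hj hiu').2, Nat.beq_eq.mp h]
  have cua := hcom hia ea hua
  have cuz := hcom hiz ez huz
  obtain ⟨-, -, hk2, -, -, -⟩ := F.four_facts ha2 h4
  have cub : Commute u ((t * a) ^ 2) := (hut.mul_right cua).pow_right 2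
  obtain ⟨huzl, euz⟩ := F.mul_conj hiu' hiz eu ez
  obtain ⟨hubl, eub⟩ := F.mul_conj hiu' (show iB < 4096 by norm_num) eu eB
  exact ⟨u, (F.tC_conj hiu' hnH eu hu2).1 huT, hut, cua, cuz,
    (F.tC_conj huzl hnH euz (sq_mul hu2 hz cuz)).1 huzT,
    (F.tC_conj hubl hnH eub (sq_mul hu2 hk2 cub)).1 hubT⟩

theorem no_second {z a b : G} (hz : z * z = 1) (hz1 : z ≠ 1) (hzt : Commute z t) (hzT : ¬ F.InT z)
    (htz : ¬ F.InT (t * z)) (ha : F.InT a) (haz : Commute a z) (hazT : F.InT (a * z))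
    (h4 : (t * a) ^ 4 = 1) (hk1 : (t * a) ^ 2 ≠ 1) (hk : ¬ F.InT ((t * a) ^ 2))
    (hkz : ¬ F.InT ((t * a) ^ 2 * z)) (hb : F.InT b) (hbz : Commute b z) (hbzT : F.InT (b * z))
    (hbp : Commute b (t * a)) (hbk : (t * b) ^ 2 = (t * a) ^ 2) : False := by
  have ha2 := InT.sq F ha
  have hb2 := InT.sq F hb
  have hbi : b⁻¹ = b := inv_eq_of_mul_eq_one_right hb2
  have hat := F.not_commute_of_four ha2 hk1
  have hbt := F.not_commute_of_four hb2 (hbk ▸ hk1)
  have h4b : (t * b) ^ 4 = 1 := by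
    rw [show (4 : ℕ) = 2 * 2 from rfl, pow_mul, hbk, ← pow_mul]; exact h4
  obtain ⟨hc, -, -, hta, -, -⟩ := F.four_facts ha2 h4
  obtain ⟨-, -, -, htb, -, -⟩ := F.four_facts hb2 h4b
  have hbtb : b * t * b = a * t * a := by rw [← htb, hbk, hta]
  have hfix : ∀ x ∈ insert b (insert a (insert z (insert (a * t * a) (insert t (∅ : Set G))))),
      (x * t * x⁻¹ = t ∧ x * (a * t * a) * x⁻¹ = a * t * a) ∨
        (x * t * x⁻¹ = a * t * a ∧ x * (a * t * a) * x⁻¹ = t) := by
    rintro x (rfl | hx)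
    · have := fix_swap (t := t) hb2
      rwa [hbtb] at this
    · exact F.base_fix hzt ha2 haz h4 x hx
  have hP : IsPGroup 2
      (closure (insert b (insert a (insert z (insert (a * t * a) (insert t (∅ : Set G))))))) := by
    refine isPGroup_insert (F.base_group hz hzt ha2 haz h4) hb2 ?_
    rintro x (hx | hx | hx | hx | h)
    · rw [hx]
      have e : b * a * b⁻¹ = (a * t * a) * t * a := by
        rw [← hbtb, hbi]
        calc b * a * b = b * t * (t * a) * b := by rw [← mul_assoc (b * t), mul_assoc b t t, t_sq C, mul_one]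
          _ = b * t * (b * (t * a)) := by rw [mul_assoc (b * t), ← hbp.eq]
          _ = _ := by group
      rw [e]
      exact mul_mem (mul_mem (subset_closure (by simp)) (subset_closure (by simp)))
        (subset_closure (by simp))
    · rw [hx, hbz.eq, mul_inv_cancel_right]; exact subset_closure (by simp)
    · rw [hx, hbi, ← hbtb, show b * (b * t * b) * b = (b * b) * t * (b * b) by group, hb2, one_mul,
        mul_one]
      exact subset_closure (by simp)
    · rw [hx, hbi, hbtb]; exact subset_closure (by simp)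
    · exact h.elim
  obtain ⟨n, hnt, eT, eA, eB, hn⟩ := F.main_frame ha h4 hk1 hk _ hP (fix_of_gens hfix)
  obtain ⟨iz, hiz, ez⟩ := hn z (subset_closure (by simp))
  obtain ⟨ia, hia, ea⟩ := hn a (subset_closure (by simp))
  obtain ⟨ib, hib, eb⟩ := hn b (subset_closure (by simp))
  obtain ⟨-, h2, -⟩ := F.main_checks hz hz1 hzt hzT htz ha haz hazT hat h4 hkz hnt eT eA eB hiz ez hia ea
  have hnH := F.mem_of_commute hnt
  obtain ⟨hbzl, ebz⟩ := F.mul_conj hib hiz eb ez
  obtain ⟨htal, eta⟩ := F.mul_conj (show iT < 4096 by norm_num) hia eT ea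
  simp only [secondOK, force_eq, List.all_eq_true] at h2
  have h := h2 ib (F.table_invO hib hnt eb hb2 hbt)
  rw [(F.tC_conj hib hnH eb hb2).2 hb, (F.tC_conj hbzl hnH ebz (sq_mul hb2 hz hbz)).2 hbzT,
    F.com_conj hib hiz eb ez hbz, F.com_conj hib htal eb eta hbp] at h
  simp at h

theorem no_centre {z a k : G} (hz : z * z = 1) (hz1 : z ≠ 1) (hzt : Commute z t) (hzT : ¬ F.InT z)
    (htz : ¬ F.InT (t * z)) (ha : F.InT a) (haz : Commute a z) (hazT : F.InT (a * z))
    (h4 : (t * a) ^ 4 = 1) (hk1 : (t * a) ^ 2 ≠ 1) (hk : ¬ F.InT ((t * a) ^ 2))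
    (hkz : ¬ F.InT ((t * a) ^ 2 * z)) (hK : k * k = 1) (hK1 : k ≠ 1) (hKT : ¬ F.InT k)
    (hKtT : F.InT (t * k)) (hne : k ≠ (t * a) ^ 2) (hKt : Commute k t) (hKz : Commute k z)
    (hKzT : ¬ F.InT (k * z)) (hKa : Commute k a) (hKaT : F.InT (a * k)) : False := by
  have ha2 := InT.sq F ha
  have hat := F.not_commute_of_four ha2 hk1
  have hKb : Commute k (a * t * a) := (hKa.mul_right hKt).mul_right hKa
  have hP : IsPGroup 2
      (closure (insert k (insert a (insert z (insert (a * t * a) (insert t (∅ : Set G))))))) := by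
    refine isPGroup_insert_comm (F.base_group hz hzt ha2 haz h4) hK ?_
    rintro x (rfl | rfl | rfl | rfl | h)
    exacts [hKa, hKz, hKb, hKt, h.elim]
  have hfix : ∀ x ∈ insert k (insert a (insert z (insert (a * t * a) (insert t (∅ : Set G))))),
      (x * t * x⁻¹ = t ∧ x * (a * t * a) * x⁻¹ = a * t * a) ∨
        (x * t * x⁻¹ = a * t * a ∧ x * (a * t * a) * x⁻¹ = t) := by
    rintro x (rfl | hx)
    · exact fix_of_commute hKt hKb
    · exact F.base_fix hzt ha2 haz h4 x hx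
  obtain ⟨n, hnt, eT, eA, eB, hn⟩ := F.main_frame ha h4 hk1 hk _ hP (fix_of_gens hfix)
  obtain ⟨iz, hiz, ez⟩ := hn z (subset_closure (by simp))
  obtain ⟨ia, hia, ea⟩ := hn a (subset_closure (by simp))
  obtain ⟨ik, hik, ek⟩ := hn k (subset_closure (by simp))
  obtain ⟨-, -, h3⟩ := F.main_checks hz hz1 hzt hzT htz ha haz hazT hat h4 hkz hnt eT eA eB hiz ez hia ea
  have hnH := F.mem_of_commute hnt
  simp only [centreOK, List.all_eq_true] at h3
  have h := h3 ik (F.table_invI hik hnt ek hK hK1 hKt).2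
  obtain ⟨htkl, etk⟩ := F.mul_conj (show iT < 4096 by norm_num) hik eT ek
  obtain ⟨hkzl, ekz⟩ := F.mul_conj hik hiz ek ez
  obtain ⟨hakl, eak⟩ := F.mul_conj hia hik ea ek
  have f1 : tC ik = false := Bool.eq_false_iff.2 fun e => hKT ((F.tC_conj hik hnH ek hK).1 e)
  have f2 : Nat.beq ik iB = false := Bool.eq_false_iff.2 fun e => hne (by
    have e' := ek.symm.trans ((congrArg F.E (Nat.beq_eq.mp e)).trans eB)
    exact mul_left_cancel (mul_right_cancel e'))
  have f3 : tC (mulX ik iz) = false :=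
    Bool.eq_false_iff.2 fun e => hKzT ((F.tC_conj hkzl hnH ekz (sq_mul hK hz hKz)).1 e)
  rw [f1, f2, f3, (F.tC_conj htkl hnH etk (sq_mul (t_sq C) hK hKt.symm)).2 hKtT,
    F.com_conj hik (show iA < 4096 by norm_num) ek eA hKb, F.com_conj hik hiz ek ez hKz,
    F.com_conj hik hia ek ea hKa, (F.tC_conj hakl hnH eak (sq_mul ha2 hK hKa.symm)).2 hKaT] at h
  simp at h

/-- Moving a conjugate of the centre towards `t` by an element of the dihedral group. -/
theorem exists_reduce {u c z : G} (hu : F.InT u) (hzt : Commute z t) (hcz : Commute c z)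
    (huz : Commute u z) :
    ∃ d : G, d * c ∈ F.H ∧ Commute d z ∧ Commute d (t * (d * c * u * (d * c)⁻¹)) ∧
      (t * (d * c * u * (d * c)⁻¹)) ^ 4 = 1 ∧
      (∀ p : G, t * p * t = p⁻¹ → Commute (c * u * c⁻¹) p → Commute d p) := by
  set v := c * u * c⁻¹ with hv
  have hv2 : v * v = 1 := by
    rw [hv, show c * u * c⁻¹ * (c * u * c⁻¹) = c * (u * u) * c⁻¹ by group, InT.sq F hu]; group
  obtain ⟨n, ⟨j, hj⟩, i, hi⟩ := conj_even_reduce (t_sq C) hv2
  set d := (t * v) ^ n with hd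
  have hvz : Commute v z := by
    have := (Commute.conj_iff c).2 huz
    rwa [hcz.eq, mul_inv_cancel_right] at this
  have htd : t * d = d⁻¹ * t := by
    have h1 : t * (t * v) * t⁻¹ = (t * v)⁻¹ := by
      rw [mul_inv_rev, inv_eq_of_mul_eq_one_right (t_sq C), inv_eq_of_mul_eq_one_right hv2,
        ← mul_assoc t t v, t_sq C, one_mul]
    rw [hd, ← inv_pow, ← h1, conj_pow, inv_mul_cancel_right]
  have e : d * c * u * (d * c)⁻¹ = d * v * d⁻¹ := by rw [hv]; group
  have hvH : d * v * d⁻¹ ∈ F.H := by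
    refine F.two_power_mem ?_ F.inT_t hi
    obtain ⟨x, -, hx⟩ := hu
    exact ⟨d * c * x, by rw [hv, ← hx]; group⟩
  have hdc : d * c ∈ F.H := F.conj_mem hu (by rw [e]; exact hvH)
  refine ⟨d, hdc, (hzt.symm.mul_left hvz).pow_left n, ?_, ?_, ?_⟩
  · rw [e]
    show d * (t * (d * v * d⁻¹)) = t * (d * v * d⁻¹) * d
    have e1 : t * (d * v * d⁻¹) = d⁻¹ * (t * v) * d⁻¹ := by
      rw [← mul_assoc, ← mul_assoc, htd]; group
    rw [e1]
    have hc : Commute d (t * v) := (Commute.refl (t * v)).pow_left n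
    calc d * (d⁻¹ * (t * v) * d⁻¹) = (t * v) * d⁻¹ := by group
      _ = d⁻¹ * (t * v) := hc.inv_left.eq.symm
      _ = _ := by group
  · rw [e]
    exact F.pow_four F.inT_t (e ▸ InT.conj F hu hdc) hi
  · intro p htp hvp
    have h2 : Commute ((t * v) ^ 2) p := by
      refine mul_inv_eq_iff_eq_mul.1 ?_
      have ti := inv_eq_of_mul_eq_one_right (t_sq C)
      have e2 : v * p * v⁻¹ = p := by rw [hvp.eq, mul_inv_cancel_right]
      calc (t * v) ^ 2 * p * ((t * v) ^ 2)⁻¹ = t * (v * (t * (v * p * v⁻¹) * t⁻¹) * v⁻¹) * t⁻¹ := by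
            rw [pow_two]; group
        _ = t * (v * p⁻¹ * v⁻¹) * t := by rw [e2, ti, htp]
        _ = p := by
          rw [hvp.inv_right.eq, mul_inv_cancel_right,
            show t * p⁻¹ * t = (t⁻¹ * p * t⁻¹)⁻¹ by group, ti, htp, inv_inv]
    rw [hd, hj, ← two_mul, pow_mul]
    exact h2.pow_left j

/-- The configuration with an element of order four. -/
theorem centralizer_four {z a c : G} (hz : z * z = 1) (hz1 : z ≠ 1) (hzt : Commute z t)
    (hzT : ¬ F.InT z) (htz : ¬ F.InT (t * z)) (ha : F.InT a) (haz : Commute a z)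
    (hazT : F.InT (a * z)) (h4 : (t * a) ^ 4 = 1) (hk1 : (t * a) ^ 2 ≠ 1)
    (hk : ¬ F.InT ((t * a) ^ 2)) (hkz : ¬ F.InT ((t * a) ^ 2 * z)) (hcz : Commute c z)
    (hcp : Commute c (t * a)) : c ∈ F.H := by
  have ha2 := InT.sq F ha
  obtain ⟨-, -, hk2, hta, hkt, hka⟩ := F.four_facts ha2 h4
  obtain ⟨u, hu, hut, hua, huz, huzT, hukT⟩ := F.exists_third hz hz1 hzt hzT htz ha haz hazT h4 hk1 hk hkz
  obtain ⟨d, hdc, hdz, hdv, hv4, hdp⟩ := F.exists_reduce hu hzt hcz huz
  have hvp : Commute (c * u * c⁻¹) (t * a) := by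
    have := (Commute.conj_iff c).2 (hut.mul_right hua)
    rwa [hcp.eq, mul_inv_cancel_right] at this
  have hdp' : Commute d (t * a) := hdp _ (by
    rw [mul_inv_rev, inv_eq_of_mul_eq_one_right (t_sq C), inv_eq_of_mul_eq_one_right ha2,
      ← mul_assoc t t a, t_sq C, one_mul]) hvp
  set e := d * c
  have hez : Commute e z := hdz.mul_left hcz
  have hep : Commute e (t * a) := hdp'.mul_left hcp
  set v := e * u * e⁻¹ with hv
  have hvT : F.InT v := InT.conj F hu hdc
  have hv2 := InT.sq F hvT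
  have hvz : Commute v z := by
    have := (Commute.conj_iff e).2 huz
    rwa [hez.eq, mul_inv_cancel_right] at this
  have hvzT : F.InT (v * z) := by
    have h := InT.conj F huzT hdc
    rwa [show e * (u * z) * e⁻¹ = v * (e * z * e⁻¹) by rw [hv]; group, hez.eq, mul_inv_cancel_right] at h
  have hvp' : Commute v (t * a) := by
    have := (Commute.conj_iff e).2 (hut.mul_right hua)
    rwa [hep.eq, mul_inv_cancel_right] at this
  have hvkT : F.InT (v * (t * a) ^ 2) := by
    have h := InT.conj F hukT hdc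
    rwa [show e * (u * (t * a) ^ 2) * e⁻¹ = v * (e * (t * a) ^ 2 * e⁻¹) by rw [hv]; group,
      (hep.pow_right 2).eq, mul_inv_cancel_right] at h
  suffices hd : d ∈ F.H by
    have := mul_mem (inv_mem hd) hdc
    rwa [show d⁻¹ * e = c by show d⁻¹ * (d * c) = c; group] at this
  by_cases hv1 : (t * v) ^ 2 = 1
  · have hvt : Commute v t := by
      show v * t = t * v
      calc v * t = v⁻¹ * t⁻¹ := by
            rw [inv_eq_of_mul_eq_one_right hv2, inv_eq_of_mul_eq_one_right (t_sq C)]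
        _ = (t * v)⁻¹ := (mul_inv_rev _ _).symm
        _ = t * v := inv_eq_of_mul_eq_one_right (by rw [← pow_two, hv1])
    rcases F.pair_case hz hz1 hzt hzT htz hvT hvt hvz hvzT with h | h
    · exact InT.commute_mem F h hdv
    · exact InT.commute_mem F h (hdv.mul_right hdz)
  by_cases hvk : F.InT ((t * v) ^ 2)
  · exact InT.commute_mem F hvk (hdv.pow_right 2)
  by_cases hvkz : F.InT ((t * v) ^ 2 * z)
  · exact InT.commute_mem F hvkz ((hdv.pow_right 2).mul_right hdz)
  exfalso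
  by_cases heq : (t * v) ^ 2 = (t * a) ^ 2
  · exact F.no_second hz hz1 hzt hzT htz ha haz hazT h4 hk1 hk hkz hvT hvz hvzT hvp' heq
  · refine F.no_centre hz hz1 hzt hzT htz hvT hvz hvzT hv4 hv1 hvk hvkz hk2 hk1 hk ?_
      (fun h => heq h.symm) hkt ((hzt.symm.mul_left haz).pow_left 2) hkz (hvp'.pow_right 2).symm hvkT
    rw [hta]
    have := InT.conj F F.inT_t (InT.mem F ha)
    rwa [inv_eq_of_mul_eq_one_right ha2] at this

theorem B_facts : C.rg 1 * C.rg 1 = 1 ∧ C.rg 1 ≠ 1 ∧ Commute t (C.rg 1) ∧ F.InT (t * C.rg 1) := by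
  have hA := F.rg_classes.1
  have hAt : Commute (C.rg 0) t := by
    rw [← F.E_A, F.E_inner (by norm_num)]; exact C.mem _
  rw [F.B_eq]
  refine ⟨sq_mul (t_sq C) (InT.sq F hA) hAt.symm, fun h => F.rg_zero_ne ?_,
    (Commute.refl t).mul_right hAt.symm, ?_⟩
  · exact (eq_inv_of_mul_eq_one_right h).trans (inv_eq_of_mul_eq_one_right (t_sq C))
  · rwa [← mul_assoc, t_sq C, one_mul]

theorem InB.sq {z : G} (h : F.InB z) : z * z = 1 := by
  obtain ⟨x, -, rfl⟩ := h
  rw [show x * C.rg 1 * x⁻¹ * (x * C.rg 1 * x⁻¹) = x * (C.rg 1 * C.rg 1) * x⁻¹ by group, F.B_facts.1]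
  group

theorem InB.ne_one {z : G} (h : F.InB z) : z ≠ 1 := by
  obtain ⟨x, -, rfl⟩ := h
  exact fun e => F.B_facts.2.1 (conj_eq_one_iff.1 e)

theorem not_inT_mul_D : ¬ F.InT (t * C.rg 3) := by
  obtain ⟨e, he, h1, h2⟩ : ∃ e ∈ HNType.Data.invs, e.2.1 = 3 ∧ tC (mulX iT e.1) = false := by
    decide +kernel
  have hok := List.all_eq_true.1 invs_ok e he
  simp only [invEntryOK, Bool.and_eq_true, Nat.beq_eq, Nat.blt_eq] at hok
  obtain ⟨⟨⟨he1, he2⟩, hew⟩, hkey⟩ := hok
  have hel : el e.1 = (pv e.2.2)⁻¹ * pv (rep e.2.1) * pv e.2.2 := by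
    rw [el_of_key he1 (lw_append.2 ⟨lw_append.2 ⟨lw_winv hew, CMap.rep_lw _ he2⟩, hew⟩) hkey.symm,
      pv_append, pv_append, pv, val_winv (wgen_inv relP)]
  set w := C.e (pv e.2.2)
  have hw : w ∈ F.H := ⟨φP _, F.hext _⟩
  have hc : w * F.E e.1 * w⁻¹ = C.rg 3 := by
    rw [F.E_inner he1, hel, C.conj_eq (Or.inl rfl), CMap.rg, h1]; simp only [w]; group
  have hwt : Commute w t := C.mem _
  have hD := InB.sq F F.rg_classes.2.2
  have hT : Commute (C.rg 3) t := C.mem _
  have he' : F.E e.1 = w⁻¹ * C.rg 3 * w⁻¹⁻¹ := by rw [← hc]; group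
  have hsq : F.E e.1 * F.E e.1 = 1 := by
    rw [he', show w⁻¹ * C.rg 3 * w⁻¹⁻¹ * (w⁻¹ * C.rg 3 * w⁻¹⁻¹) = w⁻¹ * (C.rg 3 * C.rg 3) * w by group, hD]
    group
  have eT : F.E iT = w⁻¹ * t * w⁻¹⁻¹ := by rw [F.E_T, hwt.inv_left.eq, mul_inv_cancel_right]
  obtain ⟨hl, em⟩ := F.mul_conj (show iT < 4096 by norm_num) (show e.1 < 4096 by omega) eT he'
  intro h
  rw [(F.tC_conj hl (inv_mem hw) em (sq_mul (t_sq C) hD hT.symm)).2 h] at h2
  simp at h2

theorem centralizer_D {c : G} (hc : Commute c (C.rg 3)) : c ∈ F.H := by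
  set z := C.rg 3 with hzdef
  have hzB : F.InB z := F.rg_classes.2.2
  have hz := InB.sq F hzB
  have hz1 := InB.ne_one F hzB
  have hzT := InB.not_inT F hzB
  have hzt : Commute z t := C.mem _
  have htz := F.not_inT_mul_D
  obtain ⟨h, hh, hhz⟩ := id hzB
  obtain ⟨-, -, htB, htBT⟩ := F.B_facts
  set u := h * t * h⁻¹ with hu
  have huT : F.InT u := InT.conj F F.inT_t hh
  have huz : Commute u z := by rw [← hhz]; exact (Commute.conj_iff h).2 htB
  have huzT : F.InT (u * z) := by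
    rw [← hhz, show u * (h * C.rg 1 * h⁻¹) = h * (t * C.rg 1) * h⁻¹ by rw [hu]; group]
    exact InT.conj F htBT hh
  obtain ⟨d, hdc, hdz, hdv, hv4, -⟩ := F.exists_reduce huT hzt hc huz
  set e := d * c
  have hez : Commute e z := hdz.mul_left hc
  set v := e * u * e⁻¹ with hv
  have hvT : F.InT v := InT.conj F huT hdc
  have hv2 := InT.sq F hvT
  have hvz : Commute v z := by
    have := (Commute.conj_iff e).2 huz
    rwa [hez.eq, mul_inv_cancel_right] at this
  have hvzT : F.InT (v * z) := by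
    have h := InT.conj F huzT hdc
    rwa [show e * (u * z) * e⁻¹ = v * (e * z * e⁻¹) by rw [hv]; group, hez.eq, mul_inv_cancel_right] at h
  suffices hd : d ∈ F.H by
    have := mul_mem (inv_mem hd) hdc
    rwa [show d⁻¹ * e = c by show d⁻¹ * (d * c) = c; group] at this
  by_cases hv1 : (t * v) ^ 2 = 1
  · have hvt : Commute v t := by
      show v * t = t * v
      calc v * t = v⁻¹ * t⁻¹ := by
            rw [inv_eq_of_mul_eq_one_right hv2, inv_eq_of_mul_eq_one_right (t_sq C)]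
        _ = (t * v)⁻¹ := (mul_inv_rev _ _).symm
        _ = t * v := inv_eq_of_mul_eq_one_right (by rw [← pow_two, hv1])
    rcases F.pair_case hz hz1 hzt hzT htz hvT hvt hvz hvzT with h | h
    · exact InT.commute_mem F h hdv
    · exact InT.commute_mem F h (hdv.mul_right hdz)
  by_cases hvk : F.InT ((t * v) ^ 2)
  · exact InT.commute_mem F hvk (hdv.pow_right 2)
  by_cases hvkz : F.InT ((t * v) ^ 2 * z)
  · exact InT.commute_mem F hvkz ((hdv.pow_right 2).mul_right hdz)
  exact F.centralizer_four hz hz1 hzt hzT htz hvT hvz hvzT hv4 hv1 hvk hvkz hdz hdv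

/-- The centraliser of an involution of the second sort lies in the image. -/
theorem InB.commute_mem {z c : G} (h : F.InB z) (hc : Commute c z) : c ∈ F.H := by
  obtain ⟨x, hx, rfl⟩ := h
  obtain ⟨y, hy, hy'⟩ := F.rg_classes.2.2
  set w := x * y⁻¹
  have hw : w ∈ F.H := mul_mem hx (inv_mem hy)
  have e : x * C.rg 1 * x⁻¹ = w * C.rg 3 * w⁻¹ := by rw [← hy']; simp only [w]; group
  rw [e, show c = w * (w⁻¹ * c * w) * w⁻¹ by group] at hc
  rw [show c = w * (w⁻¹ * c * w) * w⁻¹ by group]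
  exact mul_mem (mul_mem hw (F.centralizer_D ((Commute.conj_iff w).1 hc))) (inv_mem hw)

end Emb

end Cfsg.Lib.HNType.Over
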