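import Cfsg.Agent.Lib.HNType.Over.Kill

/-!
# A simple group of `HN` type is the image of `HN`, and its two classes of involutions
-/

set_option autoImplicit false

namespace Cfsg.Lib.HNType.Over

open Cfsg.Lib.HN Cfsg.Lib.HN.Top Cfsg.Lib.HN.Sub100

variable {G : Type*} [Group G]

/-- Two involutions with product of odd order are conjugate. -/
theorem exists_conj_of_odd {x y : G} (hx : x * x = 1) (hy : y * y = 1) (h : Odd (orderOf (x * y))) :
    ∃ w : G, w * y * w⁻¹ = x := by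
  obtain ⟨j, hj⟩ := h
  refine ⟨(x * y) ^ (j + 1), ?_⟩
  have hyi : y⁻¹ = y := inv_eq_of_mul_eq_one_right hy
  have h1 : y * (x * y) * y⁻¹ = (x * y)⁻¹ := by
    rw [mul_inv_rev, hyi, inv_eq_of_mul_eq_one_right hx, mul_assoc y (x * y) y, mul_assoc x y y, hy,
      mul_one]
  have h2 : y * ((x * y) ^ (j + 1))⁻¹ = (x * y) ^ (j + 1) * y := by
    have h3 : y * (x * y) ^ (j + 1) * y⁻¹ = ((x * y) ^ (j + 1))⁻¹ := by rw [← conj_pow, h1, inv_pow]
    rw [← h3, hyi, ← mul_assoc, ← mul_assoc, hy, one_mul]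
  rw [mul_assoc, h2, ← mul_assoc, ← pow_add, show j + 1 + (j + 1) = 2 * j + 1 + 1 by ring, ← hj, pow_succ,
    pow_orderOf_eq_one, one_mul, mul_assoc, hy, mul_one]

/-- Two involutions with product of even order commute with a common involution. -/
theorem exists_common [Finite G] {x y : G} (hx : x * x = 1) (hy : y * y = 1)
    (h : Even (orderOf (x * y))) :
    ∃ k : G, k * k = 1 ∧ k ≠ 1 ∧ Commute k x ∧ Commute k y := by
  obtain ⟨j, hj⟩ := h
  have hj0 : 0 < j := by have := orderOf_pos (x * y); omega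
  have hk : (x * y) ^ j * (x * y) ^ j = 1 := by rw [← pow_add, ← hj, pow_orderOf_eq_one]
  have hki : ((x * y) ^ j)⁻¹ = (x * y) ^ j := inv_eq_of_mul_eq_one_right hk
  refine ⟨_, hk, fun e => ?_, ?_, ?_⟩
  · have := Nat.le_of_dvd hj0 (orderOf_dvd_iff_pow_eq_one.2 e)
    omega
  · refine Commute.symm (mul_inv_eq_iff_eq_mul.1 ?_)
    rw [← conj_pow, show x * (x * y) * x⁻¹ = (x * x) * y * x⁻¹ by group, hx, one_mul,
      show y * x⁻¹ = (x * y⁻¹)⁻¹ by group, inv_eq_of_mul_eq_one_right hy, inv_pow, hki]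
  · refine Commute.symm (mul_inv_eq_iff_eq_mul.1 ?_)
    rw [← conj_pow, show y * (x * y) * y⁻¹ = y * x by group,
      show y * x = (x⁻¹ * y⁻¹)⁻¹ by group, inv_eq_of_mul_eq_one_right hy, inv_eq_of_mul_eq_one_right hx,
      inv_pow, hki]

variable [Finite G] {t : G} {C : CMap t false}

namespace Emb

variable (F : Emb C)

/-- The image is the whole group. -/
theorem H_eq_top : F.H = ⊤ := by
  refine eq_top_iff.2 fun g _ => ?_
  by_contra hg
  set u := g * t * g⁻¹ with hu
  have hu2 : u * u = 1 := by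
    rw [hu, show g * t * g⁻¹ * (g * t * g⁻¹) = g * (t * t) * g⁻¹ by group, t_sq C]; group
  have huH : u ∉ F.H := fun h => hg (F.conj_mem F.inT_t h)
  obtain ⟨hB2, hB1, -, -⟩ := F.B_facts
  rcases Nat.even_or_odd (orderOf (C.rg 1 * u)) with he | ho
  · obtain ⟨k, hk2, hk1, hkB, hku⟩ := exists_common hB2 hu2 he
    have hB : F.InB (C.rg 1) := ⟨1, one_mem _, by group⟩
    have hkH : k ∈ F.H := InB.commute_mem F hB hkB
    refine huH ?_
    rcases F.sort_all hkH hk2 hk1 with h | h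
    · exact InT.commute_mem F h hku.symm
    · exact InB.commute_mem F h hku.symm
  · obtain ⟨w, hw⟩ := exists_conj_of_odd hB2 hu2 ho
    refine C.not_fused_B (w * g)⁻¹ ?_
    rw [← hw, hu]
    group

end Emb

/-- An embedding of `HN` extending the map of the centraliser is onto. -/
theorem range_eq_top [IsSimpleGroup G] (C : CMap t false) (φ : Spor.HN →* G)
    (hinj : Function.Injective φ) (hext : ∀ a, φ (φP a) = C.e a) : φ.range = ⊤ :=
  Emb.H_eq_top (⟨φ, hinj, hext⟩ : Emb C)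

/-- There are exactly two classes of involutions. -/
theorem two_classes [IsSimpleGroup G] (C : CMap t false) (φ : Spor.HN →* G)
    (hinj : Function.Injective φ) (hext : ∀ a, φ (φP a) = C.e a) :
    ∃ x y : G, orderOf x = 2 ∧ orderOf y = 2 ∧ ¬ IsConj x y ∧
      ∀ z : G, orderOf z = 2 → IsConj z x ∨ IsConj z y := by
  set F : Emb C := ⟨φ, hinj, hext⟩
  obtain ⟨hB2, hB1, -, -⟩ := F.B_facts
  refine ⟨t, C.rg 1, C.ord_t, orderOf_invol hB2 hB1, fun h => ?_, fun z hz => ?_⟩
  · obtain ⟨c, hc⟩ := isConj_iff.1 h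
    refine C.not_fused_B c⁻¹ ?_
    rw [← hc]
    group
  · have hz2 : z * z = 1 := by rw [← pow_two, ← hz, pow_orderOf_eq_one]
    have hz1 : z ≠ 1 := fun e => by rw [e, orderOf_one] at hz; norm_num at hz
    rcases F.sort_all (by rw [F.H_eq_top]; trivial) hz2 hz1 with ⟨x, -, hx⟩ | ⟨x, -, hx⟩
    · exact Or.inl (isConj_iff.2 ⟨x⁻¹, by rw [← hx]; group⟩)
    · exact Or.inr (isConj_iff.2 ⟨x⁻¹, by rw [← hx]; group⟩)

end Cfsg.Lib.HNType.Over
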