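import Cfsg.Agent.Lib.HNType.Over.Classes

/-!
# The two sorts of involutions of the image, and the fusion of the first sort
-/

set_option autoImplicit false
set_option maxRecDepth 100000

namespace Cfsg.Lib.HNType.Over

open Cfsg.Lib.HN Cfsg.Lib.HN.Top Cfsg.Lib.HN.Sub100 Subgroup
open Cfsg.Lib.CosetEnum (force_eq)

variable {G : Type*} [Group G]

/-- With commutators of order two, one of three elements with central product commutes with its
conjugate. -/
theorem exists_commute_conj {P : Subgroup G} {b u x y w : G} (hu : u * u = 1) (hb : b * b = 1)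
    (hub : Commute u b) (hPb : ∀ p ∈ P, Commute p b) (hP : ∀ p ∈ P, u * p * u ∈ P)
    (hc : ∀ p ∈ P, ∀ q ∈ P, Commute p q ∨ p * q = q * p * b)
    (hx : x ∈ P) (hy : y ∈ P) (hw : w ∈ P) (hz : ∀ p ∈ P, Commute p (x * y * w)) :
    Commute x (u * x * u) ∨ Commute y (u * y * u) ∨ Commute w (u * w * u) := by
  classical
  let f : G → G → Bool := fun p q => !decide (Commute p q)
  have hsymm : ∀ p q, f p q = f q p := fun p q => by
    simp only [f, Bool.not_inj_iff, decide_eq_decide]
    exact ⟨Commute.symm, Commute.symm⟩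
  have hl : ∀ p ∈ P, ∀ q ∈ P, ∀ r ∈ P, f (p * q) r = (f p r ^^ f q r) := by
    intro p hp q hq r hr
    have hb' : ∀ {a c : G}, a * c = c * a * b → Commute a c → b = 1 := fun {a c} h h' => by
      rw [h'.eq] at h; exact mul_eq_left.1 h.symm
    by_cases hb1 : b = 1
    · have : ∀ a ∈ P, ∀ c ∈ P, f a c = false := fun a ha c hc' => by
        have h : Commute a c := (hc a ha c hc').elim id fun h => by
          rw [hb1, mul_one] at h; exact h
        simp [f, h]
      rw [this _ (mul_mem hp hq) r hr, this p hp r hr, this q hq r hr]; rfl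
    have bR : Commute b r := (hPb r hr).symm
    have bQ : Commute b q := (hPb q hq).symm
    rcases hc p hp r hr with h1 | h1 <;> rcases hc q hq r hr with h2 | h2
    · simp [f, h1, h2, h1.mul_left h2]
    · have h : p * q * r = r * (p * q) * b := by
        rw [mul_assoc p q r, h2, ← mul_assoc p (r * q) b, ← mul_assoc p r q, h1.eq, mul_assoc r p q]
      have n1 : ¬ Commute q r := fun h' => hb1 (hb' h2 h')
      have n2 : ¬ Commute (p * q) r := fun h' => hb1 (hb' h h')
      simp [f, h1, n1, n2]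
    · have h : p * q * r = r * (p * q) * b := by
        rw [mul_assoc p q r, h2.eq, ← mul_assoc p r q, h1, mul_assoc (r * p) b q, bQ.eq,
          ← mul_assoc, ← mul_assoc]
      have n1 : ¬ Commute p r := fun h' => hb1 (hb' h1 h')
      have n2 : ¬ Commute (p * q) r := fun h' => hb1 (hb' h h')
      simp [f, h2, n1, n2]
    · have h : Commute (p * q) r := by
        show p * q * r = r * (p * q)
        rw [mul_assoc p q r, h2, ← mul_assoc p (r * q) b, ← mul_assoc p r q, h1, mul_assoc (r * p) b q,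
          bQ.eq, mul_assoc, mul_assoc q b b, hb, mul_one, mul_assoc]
      have n1 : ¬ Commute p r := fun h' => hb1 (hb' h1 h')
      have n2 : ¬ Commute q r := fun h' => hb1 (hb' h2 h')
      simp [f, h, n1, n2]
  have hui : u⁻¹ = u := inv_eq_of_mul_eq_one_right hu
  have hσ : ∀ p q : G, f (u * p * u) (u * q * u) = f p q := fun p q => by
    simp only [f, Bool.not_inj_iff, decide_eq_decide]
    have := Commute.conj_iff (a := p) (b := q) u
    rwa [hui] at this
  have hσσ : ∀ p : G, u * (u * p * u) * u = p := fun p => by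
    calc u * (u * p * u) * u = (u * u) * p * (u * u) := by group
      _ = p := by rw [hu, one_mul, mul_one]
  have hcross : ∀ p q : G, f p (u * q * u) = f q (u * p * u) := fun p q => by
    rw [← hσ p, hσσ, hsymm]
  by_contra hne
  simp only [not_or] at hne
  obtain ⟨nx, ny, nw⟩ := hne
  have hxy := mul_mem hx hy
  have hm : u * (x * y * w) * u = u * x * u * (u * y * u) * (u * w * u) := by
    calc u * (x * y * w) * u = u * x * (1 : G) * y * 1 * w * u := by group
      _ = u * x * (u * u) * y * (u * u) * w * u := by rw [hu]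
      _ = _ := by group
  have h0 : f (x * y * w) (u * (x * y * w) * u) = false := by
    simp [f, (hz _ (hP _ (mul_mem hxy hw))).symm]
  have hr : ∀ p ∈ P, f p (u * (x * y * w) * u) =
      ((f p (u * x * u) ^^ f p (u * y * u)) ^^ f p (u * w * u)) := fun p hp => by
    rw [hm, hsymm, hl _ (mul_mem (hP x hx) (hP y hy)) _ (hP w hw) p hp,
      hl _ (hP x hx) _ (hP y hy) p hp, hsymm (u * x * u), hsymm (u * y * u), hsymm (u * w * u)]
  have fx : f x (u * x * u) = true := by simp [f, nx]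
  have fy : f y (u * y * u) = true := by simp [f, ny]
  have fw : f w (u * w * u) = true := by simp [f, nw]
  rw [hl _ hxy _ hw _ (hP _ (mul_mem hxy hw)), hl _ hx _ hy _ (hP _ (mul_mem hxy hw)), hr x hx, hr y hy,
    hr w hw, hcross y x, hcross w x, hcross w y, fx, fy, fw] at h0
  revert h0
  cases f x (u * y * u) <;> cases f x (u * w * u) <;> cases f y (u * w * u) <;> decide

/-- An automorphism by conjugation with an involution fixes a Sylow 2-subgroup. -/
theorem exists_fixed_sylow [Finite G] (W : Subgroup G) {u : G} (hu : u * u = 1)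
    (hW : ∀ x ∈ W, u * x * u ∈ W) :
    ∃ P : Sylow 2 W, ∀ x : W, x ∈ (P : Subgroup W) → ∀ h : u * x.1 * u ∈ W,
      (⟨_, h⟩ : W) ∈ (P : Subgroup W) := by
  classical
  haveI : Fact (Nat.Prime 2) := ⟨Nat.prime_two⟩
  have hσσ : ∀ p : G, u * (u * p * u) * u = p := fun p => by
    calc u * (u * p * u) * u = (u * u) * p * (u * u) := by group
      _ = p := by rw [hu, one_mul, mul_one]
  let α : MulAut W :=
    { toFun := fun x => ⟨u * x.1 * u, hW _ x.2⟩
      invFun := fun x => ⟨u * x.1 * u, hW _ x.2⟩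
      left_inv := fun x => Subtype.ext (hσσ _)
      right_inv := fun x => Subtype.ext (hσσ _)
      map_mul' := fun x y => Subtype.ext (by
        show u * (x.1 * y.1) * u = u * x.1 * u * (u * y.1 * u)
        calc u * (x.1 * y.1) * u = u * x.1 * (1 : G) * y.1 * u := by group
          _ = u * x.1 * (u * u) * y.1 * u := by rw [hu]
          _ = _ := by group) }
  let σ : Equiv.Perm (Sylow 2 W) := MulAction.toPerm α
  haveI : Fintype (Sylow 2 W) := Fintype.ofFinite _
  have hαα : α * α = 1 := MulEquiv.ext fun x => Subtype.ext (hσσ _)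
  have hσ : σ ^ 2 ^ 1 = 1 := by
    refine Equiv.ext fun P => ?_
    show α • α • P = P
    rw [smul_smul, hαα, one_smul]
  obtain ⟨P, hP⟩ := Equiv.Perm.exists_fixed_point_of_prime (p := 2) (n := 1) (σ := σ)
    (by rw [← Nat.card_eq_fintype_card]; exact not_dvd_card_sylow 2 W) hσ
  refine ⟨P, fun x hx h => ?_⟩
  have h1 : α • x ∈ ((α • P : Sylow 2 W) : Subgroup W) := Subgroup.smul_mem_pointwise_smul _ α _ hx
  rw [show α • P = P from hP] at h1
  exact h1

variable {t : G} {C : CMap t false} (F : Emb C) [Finite G]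

namespace Emb

include F in
theorem B_eq : C.rg 1 = t * C.rg 0 := by
  have h := F.E_mul (show iT < 4096 by norm_num) (show iA < 4096 by norm_num)
  rw [F.E_T, F.E_A, basic_facts.2.2.2.1, F.E_B] at h
  exact h.2.symm

theorem outer_inT_rep {i : ℕ} (hi : i < 4096) (hi' : 2048 ≤ i) (h : F.E i * F.E i = 1)
    (hT : F.InT (F.E i)) :
    ∃ e ∈ Data.parList, ∃ g < 2048, e.1 < 4096 ∧ F.E g * F.E i * (F.E g)⁻¹ = F.E e.1 := by
  have hne : F.E i ≠ 1 := InT.ne_one F hT
  have hm := F.mem_invO hi hi' h hne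
  have hcv := List.all_eq_true.1 clsOut_ok i hm
  simp only [clsOutOK, force_eq, Bool.and_eq_true, Nat.blt_eq, Nat.beq_eq, beq_iff_eq] at hcv
  obtain ⟨⟨⟨-, hg⟩, heq⟩, -⟩ := hcv
  have hp := List.all_eq_true.1 par_cover i hm
  rw [(F.tC_iff hi h).2 hT] at hp
  simp only [force_eq, Bool.not_true, Bool.false_or, List.any_eq_true, Nat.beq_eq] at hp
  obtain ⟨e, he, hee⟩ := hp
  rw [← hee] at heq
  have he4 : e.1 < 4096 :=
    (show ∀ e ∈ Data.parList, e.1 < 4096 by decide +kernel) e he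
  set g := Nat.shiftRight (Data.clsTab.getP i) 5
  have hconj : F.E g * F.E i * (F.E g)⁻¹ = F.E e.1 := by
    rw [(F.E_mul hg hi).2, heq, ← (F.E_mul he4 hg).2, mul_inv_cancel_right]
  rcases Nat.lt_or_ge g 2048 with hg' | hg'
  · exact ⟨e, he, g, hg', he4, hconj⟩
  · refine ⟨e, he, mulX g i, ?_, he4, ?_⟩
    · refine F.inner_of_commute (F.E_mul hg hi).1 (mul_inv_eq_iff_eq_mul.1 ?_)
      rw [← (F.E_mul hg hi).2,
        show F.E g * F.E i * t * (F.E g * F.E i)⁻¹ = F.E g * (F.E i * t * (F.E i)⁻¹) * (F.E g)⁻¹ by group,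
        (F.E_outer_conj hi hi').1, (F.E_outer_conj hg hg').2]
    · rw [← (F.E_mul hg hi).2, ← hconj]
      group

/-- The hard case: the product with `t` has order eight, moved into the table. -/
theorem sort_frame {u : G} (hu : u ∈ F.H) (hu2 : u * u = 1) (hu1 : u ≠ 1)
    (h1 : (u * t * u) * t * (u * t * u) = C.rg 0) (h2 : (u * t * u) * C.rg 0 * (u * t * u) = t) :
    F.InT u ∨ F.InB u := by
  haveI : Fact (Nat.Prime 2) := ⟨Nat.prime_two⟩
  have hui : u⁻¹ = u := inv_eq_of_mul_eq_one_right hu2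
  set a := u * t * u with ha
  have haT : F.InT a := by
    have := InT.conj F F.inT_t hu
    rwa [hui] at this
  have ha2 := InT.sq F haT
  have hai : a⁻¹ = a := inv_eq_of_mul_eq_one_right ha2
  set W := centralizer ({t, a} : Set G) with hW
  have memW : ∀ {x : G}, x ∈ W ↔ Commute x t ∧ Commute x a := by
    intro x
    simp only [hW, mem_centralizer_iff, Set.mem_insert_iff, Set.mem_singleton_iff, forall_eq_or_imp,
      forall_eq, Commute, SemiconjBy]
    exact ⟨fun h => ⟨h.1.symm, h.2.symm⟩, fun h => ⟨h.1.symm, h.2.symm⟩⟩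
  have hut : u * a * u = t := by
    simp only [ha]
    calc u * (u * t * u) * u = (u * u) * t * (u * u) := by group
      _ = t := by rw [hu2, one_mul, mul_one]
  have hWu : ∀ x ∈ W, u * x * u ∈ W := by
    intro x hx
    rw [memW] at hx ⊢
    have c1 := (Commute.conj_iff u).2 hx.1
    have c2 := (Commute.conj_iff u).2 hx.2
    rw [hui] at c1 c2
    rw [← ha] at c1
    rw [hut] at c2
    exact ⟨c2, c1⟩
  obtain ⟨P, hP⟩ := exists_fixed_sylow W hu2 hWu
  set P' : Subgroup G := (P : Subgroup W).map W.subtype with hP'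
  have hP'W : P' ≤ W := map_subtype_le _
  have hP'u : ∀ x ∈ P', u * x * u ∈ P' := by
    rintro _ ⟨x, hx, rfl⟩
    exact ⟨⟨_, hWu _ x.2⟩, hP x hx _, rfl⟩
  have hWA : ∀ x ∈ W, Commute x (C.rg 0) := fun x hx => by
    rw [← h1]; exact ((memW.1 hx).2.mul_right (memW.1 hx).1).mul_right (memW.1 hx).2
  have hAt : Commute (C.rg 0) t := by
    rw [← F.E_A, F.E_inner (by norm_num)]; exact C.mem _
  have hA2 := InT.sq F F.rg_classes.1
  -- the 2-group to be moved into the table
  have hX : IsPGroup 2 (closure (insert a (insert t (insert (C.rg 0) (P' : Set G))))) := by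
    refine isPGroup_insert (isPGroup_insert_comm (isPGroup_insert_comm (by rw [closure_eq]; exact P.2.map _)
      hA2 fun x hx => (hWA x (hP'W hx)).symm) (t_sq C) ?_) ha2 ?_
    · rintro x (rfl | hx)
      · exact hAt.symm
      · exact (memW.1 (hP'W hx)).1.symm
    · rintro x (rfl | rfl | hx)
      · rw [hai, h1]; exact subset_closure (by simp)
      · rw [hai, h2]; exact subset_closure (by simp)
      · rw [← (memW.1 (hP'W hx)).2.eq, mul_inv_cancel_right]
        exact subset_closure (Or.inr (Or.inr hx))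
  have hXle : closure (insert a (insert t (insert (C.rg 0) (P' : Set G)))) ≤ pairN (C := C) := by
    rw [closure_le]
    rintro x (rfl | rfl | rfl | hx)
    · exact Or.inr ⟨by rw [hai, h1], by rw [hai, h2]⟩
    · exact Or.inl ⟨mul_inv_cancel_right _ _, by rw [hAt.symm.eq, mul_inv_cancel_right]⟩
    · exact Or.inl ⟨by rw [hAt.eq, mul_inv_cancel_right], mul_inv_cancel_right _ _⟩
    · exact Or.inl ⟨by rw [(memW.1 (hP'W hx)).1.eq, mul_inv_cancel_right],
        by rw [(hWA x (hP'W hx)).eq, mul_inv_cancel_right]⟩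
  obtain ⟨n, hnt, hnA, hn⟩ := F.exists_frame _ hX hXle
  obtain ⟨i, hi, hia⟩ := hn a (subset_closure (by simp))
  have hnH : n ∈ F.H := F.mem_of_commute hnt
  have hi' : 2048 ≤ i := by
    by_contra hlt
    have hc : Commute (F.E i) t := by rw [F.E_inner (Nat.not_le.1 hlt)]; exact C.mem _
    have e : Commute a t := by
      have := (Commute.conj_iff n).1 (show Commute (n * a * n⁻¹) (n * t * n⁻¹) by
        rw [← hia, hnt.eq, mul_inv_cancel_right]; exact hc)
      exact this
    exact F.rg_zero_ne (h1.symm.trans (by rw [e.eq, mul_assoc, ha2, mul_one]))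
  have hiT : F.InT (F.E i) := hia ▸ InT.conj F haT hnH
  obtain ⟨e, he, g, hg, he4, hge⟩ := F.outer_inT_rep hi hi' (InT.sq F hiT) hiT
  set m := F.E g * n with hm
  have hgt : Commute (F.E g) t := by rw [F.E_inner hg]; exact C.mem _
  have hgA : Commute (F.E g) (C.rg 0) := (F.A_comm hg).symm
  have hmt : Commute m t := hgt.mul_left hnt
  have hmA : Commute m (C.rg 0) := hgA.mul_left hnA
  have hmH : m ∈ F.H := F.mem_of_commute hmt
  have hme : m * a * m⁻¹ = F.E e.1 := by rw [← hge, hia, hm]; group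
  have hfwd : ∀ x ∈ P', ∃ p < 2048, com p e.1 = true ∧ m * x * m⁻¹ = F.E p := by
    intro x hx
    obtain ⟨j, hj, hjx⟩ := hn x (subset_closure (Or.inr (Or.inr (Or.inr hx))))
    obtain ⟨h3, h4⟩ := F.E_mul (show g < 4096 by omega) hj
    have hxj : m * x * m⁻¹ = F.E (mulX g j) * (F.E g)⁻¹ := by rw [← h4, hjx, hm]; group
    obtain ⟨p, hp, hpe⟩ : ∃ p < 4096, F.E p = m * x * m⁻¹ := by
      have : m * x * m⁻¹ ∈ F.sylN := by
        rw [hxj]; exact mul_mem ⟨_, h3, rfl⟩ (inv_mem ⟨g, by omega, rfl⟩)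
      exact this
    have hct : Commute (F.E p) t := by
      rw [hpe]
      have := (Commute.conj_iff m).2 (memW.1 (hP'W hx)).1
      rwa [hmt.eq, mul_inv_cancel_right] at this
    have hce : Commute (F.E p) (F.E e.1) := by
      rw [hpe, ← hme]; exact (Commute.conj_iff m).2 (memW.1 (hP'W hx)).2
    exact ⟨p, F.inner_of_commute hp hct, F.com_of_commute hp he4 hce, hpe.symm⟩
  have hback : ∀ p < 2048, com p e.1 = true → m⁻¹ * F.E p * m ∈ P' := by
    intro p hp hpe
    set S : Subgroup G := (F.sylN ⊓ centralizer ({t, F.E e.1} : Set G)).map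
      (MulAut.conj m⁻¹).toMonoidHom with hS
    have hSp : IsPGroup 2 S :=
      ((IsPGroup.of_card (n := 12) (show Nat.card F.sylN = 2 ^ 12 by rw [F.card_sylN]; norm_num)).to_le
        inf_le_left).map _
    have hSW : S ≤ W := by
      rintro _ ⟨y, ⟨-, hy⟩, rfl⟩
      replace hy := mem_centralizer_iff.1 hy
      show m⁻¹ * y * m⁻¹⁻¹ ∈ W
      rw [memW]
      have c1 : Commute y t := (hy t (by simp)).symm
      have c2 : Commute y (F.E e.1) := (hy _ (by simp)).symm
      have d1 := (Commute.conj_iff m⁻¹).2 c1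
      have d2 := (Commute.conj_iff m⁻¹).2 c2
      rw [← hme, show m⁻¹ * (m * a * m⁻¹) * m⁻¹⁻¹ = a by group] at d2
      rw [(hmt.inv_left).eq, mul_inv_cancel_right] at d1
      exact ⟨d1, d2⟩
    have hPS : P' ≤ S := by
      intro x hx
      obtain ⟨p', hp', hc', hpx⟩ := hfwd x hx
      refine ⟨F.E p', ⟨⟨p', by omega, rfl⟩, ?_⟩, ?_⟩
      · refine mem_centralizer_iff.2 ?_
        rintro y (rfl | rfl)
        · rw [F.E_inner hp']; exact (C.mem _).symm
        · rw [(F.E_mul he4 (by omega)).2, (F.E_mul (by omega) he4).2, Nat.beq_eq.mp hc']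
      · show m⁻¹ * F.E p' * m⁻¹⁻¹ = x
        rw [← hpx]; group
    have hmax : S.subgroupOf W = (P : Subgroup W) := by
      refine P.3 (hSp.comap_of_injective W.subtype W.subtype_injective) fun x hx => ?_
      exact hPS ⟨x, hx, rfl⟩
    have hmem : m⁻¹ * F.E p * m ∈ S := by
      refine ⟨F.E p, ⟨⟨p, by omega, rfl⟩, ?_⟩, by show m⁻¹ * F.E p * m⁻¹⁻¹ = _; rw [inv_inv]⟩
      refine mem_centralizer_iff.2 ?_
      rintro y (rfl | rfl)
      · rw [F.E_inner hp]; exact (C.mem _).symm
      · rw [(F.E_mul he4 (by omega)).2, (F.E_mul (by omega) he4).2, Nat.beq_eq.mp hpe]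
    exact ⟨⟨_, hSW hmem⟩, hmax ▸ (show (⟨_, hSW hmem⟩ : W) ∈ S.subgroupOf W from hmem), rfl⟩
  -- the parity triple
  have hok := List.all_eq_true.1 par_ok e he
  simp only [parOK, List.all_cons, List.all_nil, Bool.and_true, Bool.and_eq_true, Nat.blt_eq,
    List.all_eq_true, force_eq, Bool.or_eq_true, Nat.beq_eq, centList, List.mem_filter,
    List.mem_range] at hok
  obtain ⟨⟨⟨⟨⟨hx, hxi⟩, hxT⟩, hxc⟩, ⟨⟨⟨hy, hyi⟩, hyT⟩, hyc⟩, ⟨⟨⟨hw, hwi⟩, hwT⟩, hwc⟩⟩, hpar⟩ := hok
  set b := C.rg 1 with hb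
  have hmb : m * b * m⁻¹ = b := by
    rw [hb, F.B_eq, (hmt.mul_right hmA).eq, mul_inv_cancel_right]
  have hb2 : b * b = 1 := by
    rw [hb, F.B_eq, mul_assoc, ← mul_assoc (C.rg 0), hAt.eq, mul_assoc t, hA2, mul_one, t_sq C]
  have hub : Commute u b := by
    have e1 : b = t * (a * t * a) := by rw [hb, F.B_eq, h1]
    have e2 : u * b * u⁻¹ = b⁻¹ := by
      have ti : t⁻¹ = t := inv_eq_of_mul_eq_one_right (t_sq C)
      have e3 : b⁻¹ = a * t * a * t := by
        rw [e1]
        refine inv_eq_of_mul_eq_one_right ?_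
        calc t * (a * t * a) * (a * t * a * t) = t * a * t * (a * a) * t * a * t := by group
          _ = t * a * (t * t) * a * t := by rw [ha2]; group
          _ = t * (a * a) * t := by rw [t_sq C]; group
          _ = 1 := by rw [ha2, mul_one, t_sq C]
      rw [e3, e1, hui, ha]
      calc u * (t * (u * t * u * t * (u * t * u))) * u
          = (u * t * u) * t * (u * t * u) * t * (u * u) := by group
        _ = _ := by rw [hu2, mul_one]
    rw [inv_eq_of_mul_eq_one_right hb2] at e2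
    exact mul_inv_eq_iff_eq_mul.1 e2
  have hPb : ∀ p ∈ P', Commute p b := fun p hp => by
    rw [hb, F.B_eq]; exact (memW.1 (hP'W hp)).1.mul_right (hWA p (hP'W hp))
  have hcom : ∀ p ∈ P', ∀ q ∈ P', Commute p q ∨ p * q = q * p * b := by
    intro p hp q hq
    obtain ⟨i₁, hi₁, c₁, e₁⟩ := hfwd p hp
    obtain ⟨i₂, hi₂, c₂, e₂⟩ := hfwd q hq
    obtain ⟨-, h⟩ := hpar i₁ ⟨hi₁, c₁⟩
    obtain ⟨u1, v1⟩ := F.E_mul (show i₁ < 4096 by omega) (show i₂ < 4096 by omega)
    obtain ⟨u2, v2⟩ := F.E_mul (show i₂ < 4096 by omega) (show i₁ < 4096 by omega)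
    rcases h i₂ ⟨hi₂, c₂⟩ with h | h
    · left
      refine (Commute.conj_iff m).1 ?_
      rw [e₁, e₂]
      show F.E i₁ * F.E i₂ = F.E i₂ * F.E i₁
      rw [v1, h, ← v2]
    · right
      refine (MulAut.conj m).injective ?_
      show m * (p * q) * m⁻¹ = m * (q * p * b) * m⁻¹
      calc m * (p * q) * m⁻¹ = (m * p * m⁻¹) * (m * q * m⁻¹) := by group
        _ = F.E i₂ * F.E i₁ * b := by
          rw [e₁, e₂, v1, h, ← (F.E_mul u2 (by norm_num)).2, ← v2, F.E_B]
        _ = (m * q * m⁻¹) * (m * p * m⁻¹) * (m * b * m⁻¹) := by rw [e₁, e₂, hmb]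
        _ = _ := by group
  have hback' : ∀ p < 2048, com p e.1 = true → m * (m⁻¹ * F.E p * m) * m⁻¹ = F.E p :=
    fun p _ _ => by group
  have hz : ∀ p ∈ P', Commute p ((m⁻¹ * F.E e.2.1 * m) * (m⁻¹ * F.E e.2.2.1 * m) *
      (m⁻¹ * F.E e.2.2.2 * m)) := by
    intro p hp
    obtain ⟨i₁, hi₁, c₁, e₁⟩ := hfwd p hp
    obtain ⟨⟨hc, -⟩, -⟩ := hpar i₁ ⟨hi₁, c₁⟩
    obtain ⟨u1, v1⟩ := F.E_mul (show e.2.1 < 4096 by omega) (show e.2.2.1 < 4096 by omega)
    obtain ⟨u2, v2⟩ := F.E_mul u1 (show e.2.2.2 < 4096 by omega)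
    refine (Commute.conj_iff m).1 ?_
    rw [e₁, show m * (m⁻¹ * F.E e.2.1 * m * (m⁻¹ * F.E e.2.2.1 * m) * (m⁻¹ * F.E e.2.2.2 * m)) * m⁻¹ =
      F.E e.2.1 * F.E e.2.2.1 * F.E e.2.2.2 by group, v1, v2]
    show F.E i₁ * _ = _ * F.E i₁
    rw [(F.E_mul (by omega) u2).2, (F.E_mul u2 (by omega)).2, Nat.beq_eq.mp hc]
  -- conclude
  suffices ∃ g : G, F.InT g ∧ Commute g (u * g * u) by
    obtain ⟨g, hgT, hgc⟩ := this
    refine F.sort_near hgT hu hu2 hu1 ?_
    have hg2 := InT.sq F hgT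
    have hsq : (g * u) ^ 2 = g * (u * g * u) := by rw [pow_two]; group
    have h' : u * g * u * (u * g * u) = 1 := by
      calc u * g * u * (u * g * u) = u * g * (u * u) * g * u := by group
        _ = u * (g * g) * u := by rw [hu2]; group
        _ = 1 := by rw [hg2, mul_one, hu2]
    rw [show (4 : ℕ) = 2 * 2 from rfl, pow_mul, hsq, pow_two, mul_assoc g, ← mul_assoc (u * g * u) g,
      ← hgc.eq, mul_assoc g, h', mul_one, hg2]
  have tT : ∀ p < 2048, isInv p = true → tC p = true → F.InT (m⁻¹ * F.E p * m) := fun p hp hpi hpT => by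
    have h := InT.conj F ((F.tC_iff (by omega) (F.E_isInv (by omega) hpi)).1 hpT) (inv_mem hmH)
    rwa [inv_inv] at h
  rcases exists_commute_conj hu2 hb2 hub hPb hP'u hcom (hback _ hx hxc) (hback _ hy hyc) (hback _ hw hwc)
    hz with h | h | h
  · exact ⟨_, tT _ hx hxi hxT, h⟩
  · exact ⟨_, tT _ hy hyi hyT, h⟩
  · exact ⟨_, tT _ hw hwi hwT, h⟩

/-- The sorts, after reducing the product with `t` to a power of two. -/
theorem sort_two_power {u : G} (hu : u ∈ F.H) (hu2 : u * u = 1) (hu1 : u ≠ 1) {k : ℕ}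
    (hk : (t * u) ^ 2 ^ k = 1) : F.InT u ∨ F.InB u := by
  have hui : u⁻¹ = u := inv_eq_of_mul_eq_one_right hu2
  have haT : F.InT (u * t * u) := by
    have := InT.conj F F.inT_t hu
    rwa [hui] at this
  have hta : t * (u * t * u) = (t * u) ^ 2 := by rw [pow_two]; group
  have h4 : (t * (u * t * u)) ^ 4 = 1 := F.pow_four F.inT_t haT (i := k) (by
    rw [hta, ← pow_mul, mul_comm 2, pow_mul, hk, one_pow])
  by_cases h : (t * u) ^ 4 = 1
  · exact F.sort_near F.inT_t hu hu2 hu1 h
  have hk0 : (t * (u * t * u)) ^ 2 = (t * u) ^ 4 := by rw [hta, ← pow_mul]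
  by_cases hT : F.InT ((t * (u * t * u)) ^ 2)
  · refine F.sort_of_commute hT hu2 hu1 ?_
    have h' : u * (t * u) * u⁻¹ = (t * u)⁻¹ := by
      rw [mul_inv_rev, inv_eq_of_mul_eq_one_right (t_sq C), hui, mul_assoc u (t * u) u, mul_assoc t u u,
        hu2, mul_one]
    have h2 : ((t * u) ^ 4)⁻¹ = (t * u) ^ 4 := inv_eq_of_mul_eq_one_right (by
      rw [← hk0, ← pow_add]; exact h4)
    have h3 : u * (t * u) ^ 4 * u⁻¹ = (t * u) ^ 4 := by rw [← conj_pow, h', inv_pow, h2]
    rw [hk0]
    exact mul_inv_eq_iff_eq_mul.1 h3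
  obtain ⟨c, hct, hcA, -⟩ := F.four_frame (InT.mem F haT) (InT.sq F haT) h4 (by rw [hk0]; exact h) hT
  have hc : c ∈ F.H := F.mem_of_commute hct
  have e : u = c⁻¹ * (c * u * c⁻¹) * c⁻¹⁻¹ := by group
  have e1 : c * u * c⁻¹ * t * (c * u * c⁻¹) = c * (u * t * u) * c⁻¹ := by
    calc c * u * c⁻¹ * t * (c * u * c⁻¹) = c * u * (c⁻¹ * t * c) * u * c⁻¹ := by group
      _ = _ := by rw [mul_assoc c⁻¹ t c, ← hct.eq, inv_mul_cancel_left]; group
  rcases F.sort_frame (u := c * u * c⁻¹) (mul_mem (mul_mem hc hu) (inv_mem hc))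
    (by rw [show c * u * c⁻¹ * (c * u * c⁻¹) = c * (u * u) * c⁻¹ by group, hu2]; group)
    (fun h => hu1 (conj_eq_one_iff.1 h))
    (by
      rw [e1, ← hcA]
      calc c * (u * t * u) * c⁻¹ * t * (c * (u * t * u) * c⁻¹)
          = c * (u * t * u) * (c⁻¹ * t * c) * (u * t * u) * c⁻¹ := by group
        _ = _ := by rw [mul_assoc c⁻¹ t c, ← hct.eq, inv_mul_cancel_left]; group)
    (by
      rw [e1, ← hcA]
      calc c * (u * t * u) * c⁻¹ * (c * (u * t * u * t * (u * t * u)) * c⁻¹) * (c * (u * t * u) * c⁻¹)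
          = c * ((u * t * u * (u * t * u)) * t * (u * t * u * (u * t * u))) * c⁻¹ := by group
        _ = t := by rw [InT.sq F haT, one_mul, mul_one, hct.eq, mul_inv_cancel_right]) with h | h
  · exact Or.inl (e ▸ InT.conj F h (inv_mem hc))
  · exact Or.inr (e ▸ InB.conj F h (inv_mem hc))

/-- Every involution of the image is of one of the two sorts. -/
theorem sort_all {u : G} (hu : u ∈ F.H) (hu2 : u * u = 1) (hu1 : u ≠ 1) : F.InT u ∨ F.InB u := by
  obtain ⟨n, -, k, hk⟩ := conj_even_reduce (t_sq C) hu2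
  set p := (t * u) ^ n
  have hp : p ∈ F.H := pow_mem (mul_mem F.t_mem hu) n
  have e : u = p⁻¹ * (p * u * p⁻¹) * p⁻¹⁻¹ := by group
  rcases F.sort_two_power (u := p * u * p⁻¹) (mul_mem (mul_mem hp hu) (inv_mem hp))
    (by rw [show p * u * p⁻¹ * (p * u * p⁻¹) = p * (u * u) * p⁻¹ by group, hu2]; group)
    (fun h => hu1 (conj_eq_one_iff.1 h)) hk with h | h
  · exact Or.inl (e ▸ InT.conj F h (inv_mem hp))
  · exact Or.inr (e ▸ InB.conj F h (inv_mem hp))

/-- A conjugation between elements of the first sort takes place in the image. -/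
theorem conj_mem {u c : G} (hu : F.InT u) (h : c * u * c⁻¹ ∈ F.H) : c ∈ F.H := by
  have h2 : c * u * c⁻¹ * (c * u * c⁻¹) = 1 := by
    rw [show c * u * c⁻¹ * (c * u * c⁻¹) = c * (u * u) * c⁻¹ by group, InT.sq F hu]; group
  rcases F.sort_all h h2 (fun e => InT.ne_one F hu (conj_eq_one_iff.1 e)) with hT | hB
  · obtain ⟨x, hx, rfl⟩ := hu
    obtain ⟨y, hy, hy'⟩ := hT
    have hc : Commute (y⁻¹ * c * x) t := by
      refine mul_inv_eq_iff_eq_mul.1 ?_
      rw [show y⁻¹ * c * x * t * (y⁻¹ * c * x)⁻¹ = y⁻¹ * (c * (x * t * x⁻¹) * c⁻¹) * y by group,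
        ← hy']
      group
    rw [show c = y * (y⁻¹ * c * x) * x⁻¹ by group]
    exact mul_mem (mul_mem hy (F.mem_of_commute hc)) (inv_mem hx)
  · obtain ⟨x, -, rfl⟩ := hu
    refine absurd ?_ (InB.not_fused F (g := c * x) hB)
    group

/-- A conjugate of the centre with product of 2-power order with one of the first sort. -/
theorem two_power_mem {v : G} (hv : ∃ g : G, g * t * g⁻¹ = v) {k : ℕ} :
    ∀ {u : G}, F.InT u → (u * v) ^ 2 ^ k = 1 → v ∈ F.H := by
  induction k generalizing v with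
  | zero =>
    intro u hu h
    rw [pow_zero, pow_one] at h
    rw [← inv_eq_of_mul_eq_one_right h]
    exact inv_mem (InT.mem F hu)
  | succ k ih =>
    intro u hu h
    obtain ⟨g, rfl⟩ := hv
    set v := g * t * g⁻¹ with hv
    have hv2 : v * v = 1 := by
      rw [hv, show g * t * g⁻¹ * (g * t * g⁻¹) = g * (t * t) * g⁻¹ by group, t_sq C]; group
    have hw : v * u * v ∈ F.H := by
      refine ih ?_ hu ?_
      · obtain ⟨x, -, hx⟩ := hu
        exact ⟨v * x, by rw [← hx, mul_inv_rev, inv_eq_of_mul_eq_one_right hv2]; group⟩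
      · rw [show u * (v * u * v) = (u * v) ^ 2 by rw [pow_two]; group, ← pow_mul, ← pow_succ']
        exact h
    refine F.conj_mem hu ?_
    rwa [inv_eq_of_mul_eq_one_right hv2]

end Emb

end Cfsg.Lib.HNType.Over
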